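import Cfsg.Agent.SmallGroups.PSLPrimeOrders
import Cfsg.Agent.SmallGroups.Basic

/-!
# Simple groups of order `p (p + 1) (p - 1) / 2` with `p + 1` Sylow `p`-subgroups
-/

set_option autoImplicit false
set_option linter.unusedSectionVars false

namespace Cfsg.Agent.SmallGroups.SelfCentPrime

open Subgroup MulAction Cfsg.Agent.PermB Cfsg.Agent.SmallGroups

variable {G : Type*} [Group G] [Finite G] [IsSimpleGroup G] {p : ℕ} [Fact p.Prime]

/-- No involution interchanging two points commutes with a non-trivial element fixing both, if the two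
point stabiliser has odd order. -/
theorem eq_one_of_commute_swapper_odd (hG : ¬ IsMulCommutative G) (hn : Nat.card (Sylow p G) = p + 1)
    (hP : ∀ P : Sylow p G, Nat.card ↥(P : Subgroup G) = p) {d : ℕ} (hd2 : 2 * d + 1 = p) (hodd : Odd d)
    (hcard : Nat.card G = (p + 1) * (p * d))
    (P Q : Sylow p G) (t h : G) (hPQ : P ≠ Q) (hta : t • P = Q) (htb : t • Q = P) (htt : t * t = 1)
    (h1 : h • P = P) (h2 : h • Q = Q) (hc : t * h = h * t) : h = 1 := by
  classical
  have hp : p.Prime := Fact.out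
  obtain ⟨R, -, hz, hN⟩ := zData_prime hG hn hP P
  set H := ZData.H2 (G := G) P Q with hHdef
  have hH : Nat.card ↥H = d := by
    have h := hz.card_group hPQ
    rw [hn, hcard, Nat.add_sub_cancel] at h
    exact (Nat.eq_of_mul_eq_mul_left hp.pos (Nat.eq_of_mul_eq_mul_left (by omega) h)).symm
  obtain ⟨⟨x, hx⟩, hgen⟩ := (isCyclic_H2 hG hn hP P Q hPQ).exists_generator
  have hxo : orderOf x = d := by
    rw [← hH, ← orderOf_eq_card_of_forall_mem_zpowers hgen, Subgroup.orderOf_mk]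
  have hzp : zpowers x = H :=
    Subgroup.eq_of_le_of_card_ge (zpowers_le.mpr hx) (by rw [hH, Nat.card_zpowers, hxo])
  by_contra hne
  obtain ⟨r, hr, hrd⟩ := Nat.exists_prime_and_dvd (fun h' => hne (orderOf_eq_one_iff.1 h'))
  have := Fact.mk hr
  have hhd : orderOf h ∣ d := hH ▸ Subgroup.orderOf_dvd_natCard H (⟨h1, h2⟩ : h ∈ H)
  have hr2 : r ≠ 2 := by
    rintro rfl
    exact Nat.not_even_iff_odd.2 hodd (even_iff_two_dvd.2 (hrd.trans hhd))
  obtain ⟨k, m, hrm, hkm⟩ := Nat.exists_eq_pow_mul_and_not_dvd (by obtain ⟨j, hj⟩ := hodd; omega : d ≠ 0) r hr.ne_one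
  have hk : k ≠ 0 := by
    rintro rfl
    rw [pow_zero, one_mul] at hkm
    exact hrm (hkm ▸ hrd.trans hhd)
  have htinv : t⁻¹ = t := inv_eq_of_mul_eq_one_right htt
  have hx' : t * x * t ∈ H := by
    obtain ⟨e1, e2⟩ := ZData.mem_H2.mp hx
    exact ⟨by show (t * x * t) • P = P; rw [mul_smul, mul_smul, hta, e2, htb],
      by show (t * x * t) • Q = Q; rw [mul_smul, mul_smul, htb, e1, hta]⟩
  obtain ⟨s, hs⟩ := Subgroup.mem_zpowers_iff.mp (hzp.ge hx')
  have hconj : ∀ i : ℤ, t * x ^ i * t = x ^ (s * i) := by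
    intro i
    rw [zpow_mul, hs]
    have := map_zpow (MulAut.conj t) x i
    simp only [MulAut.conj_apply, htinv] at this
    exact this
  -- `d` divides `s ^ 2 - 1`
  have hss : (d : ℤ) ∣ (s - 1) * (s + 1) := by
    have h3 : t * (t * x * t) * t = x := by
      rw [show t * (t * x * t) * t = t * t * x * (t * t) by group, htt, one_mul, mul_one]
    rw [← hs, hconj] at h3
    have h4 : x ^ (s * s - 1) = 1 := by rw [zpow_sub, h3, zpow_one, mul_inv_cancel]
    rw [← hxo, show (s - 1) * (s + 1) = s * s - 1 by ring]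
    exact orderOf_dvd_iff_zpow_eq_one.mpr h4
  obtain ⟨i, hi⟩ := Subgroup.mem_zpowers_iff.mp (hzp.ge ⟨h1, h2⟩ : h ∈ zpowers x)
  have hfixh : (d : ℤ) ∣ (s - 1) * i := by
    have h6 : x ^ (s * i) = x ^ i := by rw [← hconj, hi, hc, mul_assoc, htt, mul_one]
    rw [← hxo, sub_mul, one_mul]
    exact orderOf_dvd_iff_zpow_eq_one.mpr (by rw [zpow_sub, h6, mul_inv_cancel])
  have hrs : (r : ℤ) ∣ s - 1 := by
    by_contra hcon
    have hcop : IsCoprime ((r : ℤ) ^ k) (s - 1) :=
      ((Nat.prime_iff_prime_int.1 hr).coprime_iff_not_dvd.2 hcon).pow_left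
    have hrk : ((r : ℤ) ^ k) ∣ (d : ℤ) := ⟨m, by rw [hkm]; push_cast; ring⟩
    obtain ⟨l, hl⟩ := hcop.dvd_of_dvd_mul_left (hrk.trans hfixh)
    have h8 : h ^ m = 1 := by
      rw [← hi, ← zpow_natCast, ← zpow_mul, ← orderOf_dvd_iff_zpow_eq_one, hxo, hl, hkm]
      exact ⟨l, by push_cast; ring⟩
    exact hrm (hrd.trans (orderOf_dvd_of_pow_eq_one h8))
  have hrks : ((r : ℤ) ^ k) ∣ s - 1 := by
    have hcop : IsCoprime ((r : ℤ) ^ k) (s + 1) := by
      refine ((Nat.prime_iff_prime_int.1 hr).coprime_iff_not_dvd.2 fun hcon => ?_).pow_left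
      have h2' : (r : ℤ) ∣ ((2 : ℕ) : ℤ) := by
        have := dvd_sub hcon hrs
        simpa [show s + 1 - (s - 1) = 2 by ring] using this
      exact hr2 ((Nat.prime_dvd_prime_iff_eq hr Nat.prime_two).1 (Int.natCast_dvd_natCast.1 h2'))
    have hrk : ((r : ℤ) ^ k) ∣ (d : ℤ) := ⟨m, by rw [hkm]; push_cast; ring⟩
    exact hcop.dvd_of_dvd_mul_right (hrk.trans hss)
  set y := x ^ (m : ℤ) with hy
  have hyo : orderOf y = r ^ k := by
    have hm0 : m ≠ 0 := by rintro rfl; simp at hkm; obtain ⟨j, hj⟩ := hodd; omega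
    rw [hy, zpow_natCast, orderOf_pow_of_dvd hm0 (by rw [hxo, hkm]; exact dvd_mul_left _ _), hxo, hkm,
      Nat.mul_div_cancel _ (Nat.pos_of_ne_zero hm0)]
  have hyH : y ∈ H := zpow_mem hx _
  have hcen : Commute t y := by
    have h4 : t * y * t = y := by
      rw [hconj, hy, zpow_eq_zpow_iff_modEq, Int.modEq_iff_dvd, hxo, hkm,
        show (m : ℤ) - s * m = -((s - 1) * m) by ring, dvd_neg]
      push_cast
      exact mul_dvd_mul_right hrks _
    calc t * y = t * y * (t * t) := by rw [htt, mul_one]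
      _ = y * t := by rw [← mul_assoc, h4]
  obtain ⟨S, hS⟩ := (IsPGroup.of_card (n := k) (by rw [Nat.card_zpowers, hyo]) :
    IsPGroup r ↥(zpowers y)).exists_le_sylow
  have hm' : Nat.card G = r ^ k * ((p + 1) * (p * m)) := by rw [hcard, hkm]; ring
  have hrd' : r ∣ d := hrd.trans hhd
  have hrm' : ¬ r ∣ (p + 1) * (p * m) := by
    intro h'
    rcases hr.dvd_mul.1 h' with h'' | h''
    · have h3 : r ∣ 2 := (Nat.dvd_add_right (Dvd.dvd.mul_left hrd' 2)).1
        (show r ∣ 2 * d + 2 by rwa [show 2 * d + 2 = p + 1 by omega])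
      exact hr2 ((Nat.prime_dvd_prime_iff_eq hr Nat.prime_two).1 h3)
    · rcases hr.dvd_mul.1 h'' with h3 | h3
      · have := (Nat.prime_dvd_prime_iff_eq hr hp).1 h3
        have := Nat.le_of_dvd (by obtain ⟨j, hj⟩ := hodd; omega) hrd'
        omega
      · exact hrm h3
  have hSy : zpowers y = (S : Subgroup G) :=
    Subgroup.eq_of_le_of_card_ge hS (by rw [card_sylow_subgroup hm' hrm' S, Nat.card_zpowers, hyo])
  refine not_normalizer_le_centralizer hG (hm' ▸ (dvd_pow_self r hk).mul_right _) S ?_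
  intro g hg
  rw [← hSy] at hg ⊢
  have hy1 : y ≠ 1 := by
    intro hy1
    rw [hy1, orderOf_one] at hyo
    exact absurd hyo (ne_of_lt (Nat.one_lt_pow hk hr.one_lt))
  have hfix : ∀ a : Sylow p G, y • a = a → a = P ∨ a = Q := by
    intro a ha
    by_contra hcon
    rw [not_or] at hcon
    exact hy1 (hz.three y hPQ (Ne.symm hcon.2) (Ne.symm hcon.1) hyH.1 hyH.2 ha)
  have hmove : ∀ a : Sylow p G, y • a = a → y • g • a = g • a := by
    intro a ha
    have hgx : g⁻¹ * y * g ∈ zpowers y := by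
      refine (mem_normalizer_iff.mp hg _).mpr ?_
      rw [show g * (g⁻¹ * y * g) * g⁻¹ = y by group]
      exact mem_zpowers y
    obtain ⟨j, hj⟩ := Subgroup.mem_zpowers_iff.mp hgx
    have h5 : (g⁻¹ * y * g) • a = a := by
      rw [← hj]
      exact (zpowers_le (H := MulAction.stabilizer G a)).mpr ha (Subgroup.zpow_mem_zpowers y j)
    rw [mul_smul, mul_smul, inv_smul_eq_iff] at h5
    exact h5
  have hHC : ∀ u ∈ H, u ∈ centralizer ((zpowers y : Subgroup G) : Set G) := by
    intro u hu v hv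
    obtain ⟨a, rfl⟩ := Subgroup.mem_zpowers_iff.mp (hzp.ge hu)
    obtain ⟨b, rfl⟩ := Subgroup.mem_zpowers_iff.mp hv
    exact ((((Commute.refl x).zpow_left (m : ℤ)).zpow_left b).zpow_right a).eq
  have htC : t ∈ centralizer ((zpowers y : Subgroup G) : Set G) := by
    intro v hv
    obtain ⟨b, rfl⟩ := Subgroup.mem_zpowers_iff.mp hv
    exact (hcen.symm.zpow_left b).eq
  rcases hfix _ (hmove P hyH.1) with hgP | hgP
  · exact hHC g ⟨hgP, (hfix _ (hmove Q hyH.2)).resolve_left
      fun h => hPQ (MulAction.injective g (hgP.trans h.symm))⟩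
  · have hgQ : g • Q = P := (hfix _ (hmove Q hyH.2)).resolve_right
      fun h => hPQ (MulAction.injective g (hgP.trans h.symm))
    have htg : t * g ∈ H := ⟨by show (t * g) • P = P; rw [mul_smul, hgP, htb],
      by show (t * g) • Q = Q; rw [mul_smul, hgQ, hta]⟩
    rw [show g = t * (t * g) by rw [← mul_assoc, htt, one_mul]]
    exact mul_mem htC (hHC _ htg)

/-- A simple group of order `p (p + 1) (p - 1) / 2` with `p + 1` Sylow `p`-subgroups is `PSL(2, p)`. -/
theorem nonempty_equiv_psl_of_prime (hG : ¬ IsMulCommutative G) (hn : Nat.card (Sylow p G) = p + 1)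
    (hP : ∀ P : Sylow p G, Nat.card ↥(P : Subgroup G) = p) {d : ℕ} (hd : 2 * d + 1 = p)
    (hcard : Nat.card G = (p + 1) * (p * d)) {F : Type*} [Field F] [Fintype F]
    (hF : Fintype.card F = p) : Nonempty (G ≃* Matrix.ProjectiveSpecialLinearGroup (Fin 2) F) := by
  rcases Nat.even_or_odd d with h | h
  · exact nonempty_equiv_psl_one_mod_four hG hn hP hd hcard h hF
  · exact nonempty_equiv_psl_three_mod_four hG hn hP hd hcard h
      (eq_one_of_commute_swapper_odd hG hn hP hd h hcard) hF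

end Cfsg.Agent.SmallGroups.SelfCentPrime
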