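import Cfsg.Agent.SmallGroups.SelfCentPrime.EvenCase
import Cfsg.Agent.SmallGroups.SelfCentPrime.Recognition
import Mathlib.GroupTheory.Abelianization.Defs

/-!
# Simple groups with a self-centralizing subgroup of prime order `p` and fewer than `p (p + 3) / 2` conjugates
-/

set_option linter.style.haveILetI false
set_option linter.unusedSectionVars false

noncomputable section

namespace Cfsg.Agent.SmallGroups.SelfCentPrime

open scoped Classical ComplexConjugate
open Cfsg Finset

universe u

variable {G : Type u} [Group G]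

/-- The two families of conclusions. -/
def Conclusion (G : Type u) [Group G] (p : ℕ) : Prop :=
  (∃ (F : Type) (_ : Field F) (_ : Fintype F), Fintype.card F = p ∧ 3 < p ∧
    Nonempty (G ≃* Matrix.ProjectiveSpecialLinearGroup (Fin 2) F)) ∨
  (∃ (m : ℕ) (F : Type) (_ : Field F) (_ : Fintype F), Fintype.card F = 2 ^ m ∧ p = 2 ^ m + 1 ∧ 3 < p ∧
    Nonempty (G ≃* Matrix.ProjectiveSpecialLinearGroup (Fin 2) F))

variable [Finite G] {p : ℕ} [hp : Fact p.Prime]

/-- In the absence of non-exceptional characters of positive sign, `e = 2`. -/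
theorem Setup.eq_two_of_empty [Fintype G] [IsSimpleGroup G] {P : Sylow p G} {x : G} {e n : ℕ}
    (S : Setup P x e) (hn : Nat.card (Sylow p G) = 1 + n * p) (hG : ¬ IsMulCommutative G)
    (hnf : NF p n) {t d j : ℕ} (ht : t * e = p - 1) {XA XP Y R : Finset (Cfsg.IrrCharacter G)}
    {m : Cfsg.IrrCharacter G → ℕ} (H : Shape P n e t (-1) d XA XP Y R) (hj : t * j = n + 1)
    (hje : j * (1 + t * XA.card) + 1 = e) (hA : XA = ∅) (hm : MinusValues P x n e j XA XP Y R m) :
    e = 2 := by
  classical
  by_contra he2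
  have h2 := S.two_le_e hn hG
  have ht2 := S.two_le_t hn hG ht H
  have hp3 := S.three_le_p hn hG
  have hje' : j + 1 = e := by simpa [hA] using hje
  obtain ⟨θ₀, hθ₀⟩ : Y.Nonempty := by rw [← Finset.card_pos, H.cardY]; omega
  set E := Subgroup.zpowers x with hE
  have hx1 : x ≠ 1 := fun h => by have := S.order; rw [h, orderOf_one] at this; omega
  have hxE : x ∈ E := Subgroup.mem_zpowers x
  have hθ : ∀ θ ∈ Y, ∀ y ∈ E, y ≠ 1 → (θ : G → ℂ) y = -1 := fun θ hθ y hy hy1 => by
    simpa [hA] using hm.sum_AY θ hθ y hy hy1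
  -- the centralizers
  have hC : ∀ y ∈ E, y ≠ 1 → Nat.card ↥(Subgroup.centralizer ({y} : Set G)) = t * e := by
    intro y hy hy1
    have h := S.card_centralizer_eq hn hG hnf ht H hj hje hm hy hy1
    rw [hA, Finset.sum_empty, Finset.sum_congr rfl (fun θ h' => by rw [hθ θ h' y hy hy1] :
      ∀ θ ∈ Y, (θ : G → ℂ) y * conj ((θ : G → ℂ) y) = (-1 : ℂ) * conj (-1 : ℂ))] at h
    simp only [Finset.sum_const, H.cardY, map_neg, map_one, mul_neg, mul_one, neg_neg, nsmul_eq_mul,
      add_zero] at h
    apply Nat.cast_injective (R := ℂ)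
    rw [h]
    have hj' : (t : ℂ) * j = n + 1 := by exact_mod_cast hj
    have hje'' : (j : ℂ) + 1 = e := by exact_mod_cast hje'
    push_cast; linear_combination -hj' + (t : ℂ) * hje''
  -- the complement is fused
  have hconj : ∀ y ∈ E, y ≠ 1 → IsConj x y := by
    intro y hy hy1
    by_contra hne
    have h := Char.sum_irr_mul_conj x y
    rw [if_neg hne] at h
    have hval : ∀ χ : Cfsg.IrrCharacter G, (χ : G → ℂ) y = (χ : G → ℂ) x := by
      intro χ
      rcases H.cover χ with h' | h' | h' | h' | h'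
      · rw [h']; rfl
      · rw [hA] at h'; exact absurd h' (Finset.notMem_empty _)
      · rw [hm.valP χ h' y hy hy1, hm.valP χ h' x hxE hx1]
      · rw [hθ χ h' y hy hy1, hθ χ h' x hxE hx1]
      · rw [hm.valR χ h' y hy hy1, hm.valR χ h' x hxE hx1]
    rw [Finset.sum_congr rfl fun χ _ => by rw [hval χ]] at h
    have h' := Char.sum_irr_mul_conj x x
    rw [if_pos (IsConj.refl x), h] at h'
    exact Nat.card_pos.ne' (Nat.cast_eq_zero.1 h'.symm)
  have hord : ∀ y ∈ E, y ≠ 1 → orderOf y = e := fun y hy hy1 => by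
    obtain ⟨g, rfl⟩ := isConj_iff.1 (hconj y hy hy1)
    rw [← MulAut.conj_apply, ← MulEquiv.coe_toMonoidHom, orderOf_injective _ (MulAut.conj g).injective,
      S.order]
  have heprime : e.Prime := by
    refine Nat.prime_def_lt'.2 ⟨h2, fun r hr2 hre hr => ?_⟩
    have ho : orderOf (x ^ (e / r)) = r := by
      have := orderOf_pow_orderOf_div (x := x) (n := r) (orderOf_pos x).ne' (by rwa [S.order])
      rwa [S.order] at this
    have h := hord _ (pow_mem hxE _) (fun h => by rw [h, orderOf_one] at ho; omega)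
    omega
  -- the normalizer of the complement
  set M := Subgroup.normalizer (E : Set G) with hM
  have hEc : Nat.card ↥E = e := by rw [hE, Nat.card_zpowers, S.order]
  have hgen : ∀ y ∈ E, y ≠ 1 → Subgroup.zpowers y = E := fun y hy hy1 =>
    Subgroup.eq_of_le_of_card_ge (Subgroup.zpowers_le.2 hy) (by rw [hEc, Nat.card_zpowers, hord y hy hy1])
  have hCM : Subgroup.centralizer ({x} : Set G) ≤ M := fun c hc => by
    rw [hM, Subgroup.mem_normalizer_iff]
    have hc' : c * x * c⁻¹ = x := mul_inv_eq_iff_eq_mul.2 (Subgroup.mem_centralizer_singleton_iff.1 hc)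
    intro a
    have hfix : ∀ z ∈ E, c * z * c⁻¹ = z := fun z hz => by
      obtain ⟨i, rfl⟩ := Subgroup.mem_zpowers_iff.1 hz
      rw [← conj_zpow, hc']
    refine ⟨fun ha => by rw [hfix a ha]; exact ha, fun ha => ?_⟩
    have h := hfix _ ha
    rw [mul_left_inj, mul_right_inj] at h
    rwa [← h]
  have horbit : Nat.card ↥M = (e - 1) * (t * e) := by
    let f : ↥M → {y : ↥E // y ≠ 1} := fun g => ⟨⟨(g : G) * x * (g : G)⁻¹,
      (Subgroup.mem_normalizer_iff.1 g.2 x).1 hxE⟩, fun h => hx1 (conj_eq_one_iff.1 (congrArg Subtype.val h))⟩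
    have hsurj : Function.Surjective f := by
      rintro ⟨⟨y, hy⟩, hy1⟩
      have hy1' : y ≠ 1 := fun h => hy1 (Subtype.ext h)
      obtain ⟨g, rfl⟩ := isConj_iff.1 (hconj y hy hy1')
      have hle : E ≤ E.comap (MulAut.conj g).toMonoidHom := Subgroup.zpowers_le.2 (by simpa using hy)
      have hg : g ∈ M := by
        rw [hM, Subgroup.mem_normalizer_iff]
        intro a
        refine ⟨fun ha => by simpa using hle ha, fun ha => ?_⟩
        have hmap : E.map (MulAut.conj g).toMonoidHom = E := by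
          rw [hE, MonoidHom.map_zpowers, ← hE]; exact hgen _ hy hy1'
        rw [← hmap] at ha
        obtain ⟨b, hb, hba⟩ := ha
        have hba' : g * b * g⁻¹ = g * a * g⁻¹ := by simpa using hba
        rwa [← mul_left_cancel (mul_right_cancel hba')]
      exact ⟨⟨g, hg⟩, rfl⟩
    haveI := Fintype.ofFinite {y : ↥E // y ≠ 1}
    haveI := Fintype.ofFinite ↥M
    have hfib : ∀ y, Nat.card {g : ↥M // f g = y} = t * e := by
      intro y
      obtain ⟨g₀, rfl⟩ := hsurj y
      rw [← hC x hxE hx1]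
      have hmem : ∀ g : ↥M, f g = f g₀ → (g₀ : G)⁻¹ * g ∈ Subgroup.centralizer ({x} : Set G) := by
        intro g hg
        have h : (g : G) * x * (g : G)⁻¹ = (g₀ : G) * x * (g₀ : G)⁻¹ :=
          congrArg (fun z : {y : ↥E // y ≠ 1} => ((z : ↥E) : G)) hg
        rw [Subgroup.mem_centralizer_singleton_iff]
        calc (g₀ : G)⁻¹ * g * x = (g₀ : G)⁻¹ * ((g : G) * x * (g : G)⁻¹) * g := by group
          _ = x * ((g₀ : G)⁻¹ * g) := by rw [h]; group
      refine Nat.card_congr
        { toFun := fun g => ⟨(g₀ : G)⁻¹ * g.1, hmem g.1 g.2⟩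
          invFun := fun c => ⟨g₀ * ⟨c.1, hCM c.2⟩, Subtype.ext (Subtype.ext (by
            show (g₀ : G) * c.1 * x * ((g₀ : G) * c.1)⁻¹ = (g₀ : G) * x * (g₀ : G)⁻¹
            rw [mul_assoc (g₀ : G) c.1 x, Subgroup.mem_centralizer_singleton_iff.1 c.2]; group))⟩
          left_inv := fun g => Subtype.ext (Subtype.ext (mul_inv_cancel_left _ _))
          right_inv := fun c => Subtype.ext (inv_mul_cancel_left _ _) }
    rw [Nat.card_congr (Equiv.sigmaFiberEquiv f).symm, Nat.card_sigma, Finset.sum_congr rfl fun y _ => hfib y,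
      Finset.sum_const, Finset.card_univ, smul_eq_mul, Fintype.card_subtype_compl, Fintype.card_subtype_eq,
      ← Nat.card_eq_fintype_card, hEc]
  -- parity
  have htd : t * d = 1 + n * p := (H.cases.resolve_left fun h => absurd h.1 (by decide)).2.1
  have h3 := M.card_subgroup_dvd_card
  rw [horbit, S.card_group hn, ← htd, show p * e * (t * d) = p * d * (t * e) by ring] at h3
  have h4 : e - 1 ∣ p * d := Nat.dvd_of_mul_dvd_mul_right (Nat.mul_pos (by omega) (by omega)) h3
  have heodd : Odd e := heprime.odd_of_ne_two he2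
  obtain ⟨q, hq⟩ := heodd
  have hpodd : Odd p := hp.out.odd_of_ne_two (by omega)
  have hdodd : Odd d := by
    have hte : (t : ℤ) * e + 1 = p := by exact_mod_cast (show t * e + 1 = p by omega)
    have h5 : (t : ℤ) * d = (t : ℤ) * (t * e * (e - 1) - 1) := by
      have hj' : (t : ℤ) * j = n + 1 := by exact_mod_cast hj
      have hje'' : (j : ℤ) + 1 = e := by exact_mod_cast hje'
      have htd' : (t : ℤ) * d = 1 + n * p := by exact_mod_cast htd
      rw [htd', ← hte, show (n : ℤ) = t * j - 1 by linarith, show (j : ℤ) = e - 1 by linarith]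
      ring
    have h6 := mul_left_cancel₀ (show (t : ℤ) ≠ 0 by exact_mod_cast (by omega : t ≠ 0)) h5
    have h7 : (d : ℤ) + 1 = 2 * ((t : ℤ) * e * q) := by
      rw [h6, show ((e : ℤ)) - 1 = 2 * q by rw [hq]; push_cast; ring]; ring
    refine Nat.odd_iff.2 ?_
    omega
  have := (hpodd.mul hdodd)
  rw [Nat.odd_iff] at this
  have h8 : 2 ∣ p * d := (show 2 ∣ e - 1 from ⟨q, by omega⟩).trans h4
  omega

/-- The classification for a simple group, from the divisor condition. -/
theorem conclusion_of_simple_nf [IsSimpleGroup G] (hG : ¬ IsMulCommutative G) (P : Sylow p G)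
    (hP : Nat.card P = p) (hC : Subgroup.centralizer ((P : Subgroup G) : Set G) = (P : Subgroup G))
    {n : ℕ} (hn : Nat.card (Sylow p G) = 1 + n * p) (hnf : NF p n) : Conclusion G p := by
  letI := Fintype.ofFinite G
  obtain ⟨e, he⟩ : ∃ e, (Subgroup.centralizer ((P : Subgroup G) : Set G)).relIndex
    (Subgroup.normalizer ((P : Subgroup G) : Set G)) = e := ⟨_, rfl⟩
  obtain ⟨-, x, S⟩ := exists_setup hP hC he
  obtain ⟨t, ε, d, XA, XP, Y, R, ht, H⟩ := S.exists_shape hn hG hnf
  have hn1 := S.n_pos hn hG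
  have hp3 := S.three_le_p hn hG
  have ht2 := S.two_le_t hn hG ht H
  have he2 := S.two_le_e hn hG
  have hpe : p = t * e + 1 := by omega
  have hte : 2 * e ≤ t * e := Nat.mul_le_mul_right _ ht2
  -- recognition when `n = 1`
  have hrec : n = 1 → t = 2 → Conclusion G p := by
    rintro rfl rfl
    refine .inl ⟨ZMod p, inferInstance, inferInstance, ZMod.card p, by omega, ?_⟩
    have hP' : ∀ Q : Sylow p G, Nat.card ↥(Q : Subgroup G) = p := fun Q =>
      (Nat.card_congr (Q.equiv P).toEquiv).trans hP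
    exact nonempty_equiv_psl_of_prime hG (by rw [hn]; ring) hP' (d := e) (by omega)
      (by rw [S.card_group hn]; ring) (ZMod.card p)
  rcases H.cases with ⟨hε, -, -⟩ | ⟨hε, -, -⟩
  · subst hε
    obtain ⟨h1, h2⟩ := S.eq_one_of_pos hn hG ht H
    exact hrec h1 h2
  subst hε
  obtain ⟨j, hj, hje, hj0⟩ := S.exists_j hn hG ht H
  have htj : t ≤ t * j := Nat.le_mul_of_pos_right t hj0
  by_cases hn2 : n = 1
  · exact hrec hn2 (by omega)
  obtain ⟨m, hm⟩ := S.exists_minusValues hn hG ht H hj hje hj0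
  have hn2' : 2 ≤ n := by omega
  rcases Nat.eq_zero_or_pos XA.card with hA | hA
  · rw [Finset.card_eq_zero] at hA
    have hje' : j + 1 = e := by simpa [hA] using hje
    have he : e = 2 := S.eq_two_of_empty hn hG hnf ht H hj hje hA hm
    subst he
    obtain rfl : j = 1 := by omega
    exact .inr (S.exists_equiv_psl_even hn hG hnf ht H hj hA hm hn2')
  · exfalso
    rcases Nat.even_or_odd e with h | h
    · exact S.false_even hn hG hnf ht H hj hje hm hn2' hA h
    · exact S.false_odd hn hG hnf ht H hj hje hm hn2' hA h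

/-- The classification for a simple group. -/
theorem conclusion_of_simple [IsSimpleGroup G] (hG : ¬ IsMulCommutative G) (P : Sylow p G)
    (hP : Nat.card P = p) (hC : Subgroup.centralizer ((P : Subgroup G) : Set G) = (P : Subgroup G))
    {n : ℕ} (hn : Nat.card (Sylow p G) = 1 + n * p) (h2n : 2 * n < p + 3) : Conclusion G p :=
  conclusion_of_simple_nf hG P hP hC hn (NF.of_lt hp.out.two_le h2n)

/-- A perfect group with a self-centralizing subgroup of prime order and few conjugates is simple. -/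
theorem isSimpleGroup_of_perfect (hperf : commutator G = ⊤) (P : Sylow p G) (hP : Nat.card P = p)
    (hC : Subgroup.centralizer ((P : Subgroup G) : Set G) = (P : Subgroup G))
    {n : ℕ} (hn : Nat.card (Sylow p G) = 1 + n * p) (h2n : 2 * n < p + 3) :
    IsSimpleGroup G ∧ ¬ IsMulCommutative G := by
  letI := Fintype.ofFinite G
  set N := Subgroup.normalizer ((P : Subgroup G) : Set G) with hN
  obtain ⟨z, hz⟩ : ∃ z : ↥(P : Subgroup G), orderOf z = p :=
    exists_prime_orderOf_dvd_card' p (dvd_of_eq hP.symm)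
  have hz1 : (z : G) ≠ 1 := by
    intro h
    rw [show z = 1 from Subtype.ext h, orderOf_one] at hz
    exact hp.out.ne_one hz.symm
  have : Nontrivial G := ⟨⟨z, 1, hz1⟩⟩
  have hcomm_top : ∀ {H : Type u} [Group H] (f : G →* H), Function.Surjective f →
      (∀ a b : H, a * b = b * a) → ∀ g, f g = 1 := by
    intro H _ f _ hH g
    have hg : g ∈ commutator G := hperf ▸ Subgroup.mem_top g
    have hle : commutator G ≤ f.ker := by
      rw [commutator_def, Subgroup.commutator_le]
      intro a _ b _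
      rw [MonoidHom.mem_ker, map_commutatorElement, commutatorElement_def, hH (f a) (f b)]
      group
    exact hle hg
  have hnc : ¬ IsMulCommutative G := fun h => hz1 (hcomm_top (MonoidHom.id G) Function.surjective_id
    (fun a b => h.is_comm.comm a b) z)
  -- commutators of the normalizer lie in `P`
  have hNcomm : ∀ a ∈ N, ∀ b ∈ N, a * b * a⁻¹ * b⁻¹ ∈ (P : Subgroup G) := by
    intro a ha b hb
    have : IsCyclic ↥(P : Subgroup G) := isCyclic_of_prime_card hP
    let ι := (P : Subgroup G).normalizerMonoidHom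
    have hab : ι ⟨a, ha⟩ * ι ⟨b, hb⟩ = ι ⟨b, hb⟩ * ι ⟨a, ha⟩ := by
      apply (IsCyclic.mulAutMulEquiv ↥(P : Subgroup G)).injective
      rw [map_mul, map_mul, mul_comm]
    have hker : (⟨a, ha⟩ * ⟨b, hb⟩ * (⟨a, ha⟩ : ↥N)⁻¹ * (⟨b, hb⟩ : ↥N)⁻¹ : ↥N) ∈ ι.ker := by
      rw [MonoidHom.mem_ker, map_mul, map_mul, map_mul, map_inv, map_inv, hab, mul_inv_cancel_right,
        mul_inv_cancel]
    rw [Subgroup.normalizerMonoidHom_ker, Subgroup.mem_subgroupOf, hC] at hker
    exact hker
  refine ⟨⟨fun K hK => ?_⟩, hnc⟩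
  by_contra hcon
  rw [not_or] at hcon
  obtain ⟨hKb, hKt⟩ := hcon
  let f := QuotientGroup.mk' K
  have hKker : ∀ g, f g = 1 ↔ g ∈ K := fun g => QuotientGroup.eq_one_iff g
  have hab_false : ¬ ∀ a b : G ⧸ K, a * b = b * a := fun h =>
    hKt (eq_top_iff.2 fun g _ => (hKker g).1 (hcomm_top f (QuotientGroup.mk'_surjective K) h g))
  by_cases hpK : p ∣ Nat.card ↥K
  · -- `P ≤ K`
    obtain ⟨⟨w, hwK⟩, hw⟩ := exists_prime_orderOf_dvd_card' (G := ↥K) p hpK
    rw [Subgroup.orderOf_mk] at hw
    obtain ⟨Q, hQ⟩ := (IsPGroup.of_card (n := 1) (by rw [Nat.card_zpowers, hw, pow_one]) :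
      IsPGroup p ↥(Subgroup.zpowers w)).exists_le_sylow
    have hQc : Nat.card ↥(Q : Subgroup G) = p := (Nat.card_congr (Q.equiv P).toEquiv).trans hP
    have hQK : (Q : Subgroup G) ≤ K := by
      rw [← Subgroup.eq_of_le_of_card_ge hQ (by rw [hQc, Nat.card_zpowers, hw])]
      exact Subgroup.zpowers_le.2 hwK
    obtain ⟨g, hg⟩ := MulAction.exists_smul_eq G Q P
    have hPK : (P : Subgroup G) ≤ K := by
      intro a ha
      rw [← hg, Sylow.coe_subgroup_smul] at ha
      obtain ⟨b, hb, rfl⟩ := (Subgroup.mem_smul_pointwise_iff_exists a (MulAut.conj g) (Q : Subgroup G)).1 ha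
      exact hK.conj_mem b (hQK hb) g
    have hfr : N ⊔ K = ⊤ := Sylow.normalizer_sup_eq_top' P hPK
    refine hab_false fun a b => ?_
    obtain ⟨a', rfl⟩ := QuotientGroup.mk'_surjective K a
    obtain ⟨b', rfl⟩ := QuotientGroup.mk'_surjective K b
    obtain ⟨a1, ha1, a2, ha2, rfl⟩ := Subgroup.mem_sup_of_normal_right.1 (hfr ▸ Subgroup.mem_top a')
    obtain ⟨b1, hb1, b2, hb2, rfl⟩ := Subgroup.mem_sup_of_normal_right.1 (hfr ▸ Subgroup.mem_top b')
    show f (a1 * a2) * f (b1 * b2) = f (b1 * b2) * f (a1 * a2)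
    rw [map_mul, map_mul, (hKker a2).2 ha2, (hKker b2).2 hb2, mul_one, mul_one]
    have h1 := (hKker _).2 (hPK (hNcomm a1 ha1 b1 hb1))
    rw [map_mul, map_mul, map_mul, map_inv, map_inv] at h1
    exact mul_inv_eq_iff_eq_mul.1 (mul_inv_eq_one.1 h1)
  · -- `P` acts without fixed points on `K`
    have hKP : ∀ a ∈ K, a ∈ (P : Subgroup G) → a = 1 := by
      intro a haK haP
      by_contra h
      have h2 := Subgroup.orderOf_dvd_natCard _ haP
      rw [show Nat.card ↥(P : Subgroup G) = p from hP] at h2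
      rcases (Nat.dvd_prime hp.out).1 h2 with h3 | h3
      · exact h (orderOf_eq_one_iff.1 h3)
      · exact hpK (h3 ▸ Subgroup.orderOf_dvd_natCard _ haK)
    have hKN : ∀ a ∈ K, a ∈ N → a = 1 := by
      intro a haK haN
      refine hKP a haK ?_
      rw [← hC, Subgroup.mem_centralizer_iff]
      intro v hv
      have h1 : a * v * a⁻¹ * v⁻¹ = 1 := by
        refine hKP _ ?_ (mul_mem ((Subgroup.mem_normalizer_iff.1 haN v).1 hv) (inv_mem hv))
        rw [show a * v * a⁻¹ * v⁻¹ = a * (v * a⁻¹ * v⁻¹) by group]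
        exact mul_mem haK (hK.conj_mem _ (inv_mem haK) v)
      exact (mul_inv_eq_iff_eq_mul.1 (mul_inv_eq_one.1 h1)).symm
    have hmod : Nat.card ↥K ≡ 1 [MOD p] := by
      refine card_modEq_one_of_fixedPointFree (y := (z : G)) (by rw [Subgroup.orderOf_coe, hz])
        (by rw [Subgroup.normalizer_eq_top_iff.2 hK]; exact Subgroup.mem_top _) fun a ha hc => hKP a ha ?_
      rw [← hC, ← Brauer.OrderP.centralizer_eq P hP z.2 hz1, Subgroup.mem_centralizer_singleton_iff]
      exact hc.symm.eq
    have hinj : Nat.card ↥(N.map f) = Nat.card ↥N := by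
      refine (Nat.card_congr (Equiv.ofBijective
        (fun a : ↥N => (⟨f a, Subgroup.mem_map_of_mem f a.2⟩ : ↥(N.map f))) ⟨fun a b h => ?_, ?_⟩)).symm
      · have h1 : f a = f b := congrArg Subtype.val h
        refine Subtype.ext (mul_inv_eq_one.1 (hKN _ ((hKker _).1 ?_) (mul_mem a.2 (inv_mem b.2))))
        rw [map_mul, map_inv, h1, mul_inv_cancel]
      · rintro ⟨_, a, ha, rfl⟩
        exact ⟨⟨a, ha⟩, rfl⟩
    have hA : Nat.card (Sylow p G) = Nat.card ↥K * (N.map f).index := by
      refine Nat.eq_of_mul_eq_mul_right (Nat.card_pos (α := ↥N)) ?_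
      rw [hN, card_sylow_mul_card_normalizer, ← hN, mul_assoc, ← hinj, Subgroup.index_mul_card,
        ← Subgroup.index_eq_card, Subgroup.card_mul_index]
    have hidx : (N.map f).index ≠ 1 := by
      intro h
      rw [Subgroup.index_eq_one] at h
      refine hab_false ?_
      have hPtop : (P : Subgroup G).map f = ⊤ := by
        refine eq_top_iff.2 fun q _ => ?_
        obtain ⟨g, rfl⟩ := QuotientGroup.mk'_surjective K q
        have hle : commutator G ≤ ((P : Subgroup G).map f).comap f := by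
          rw [commutator_def, Subgroup.commutator_le]
          intro a _ b _
          obtain ⟨a1, ha1, ha⟩ : f a ∈ N.map f := h ▸ Subgroup.mem_top _
          obtain ⟨b1, hb1, hb⟩ : f b ∈ N.map f := h ▸ Subgroup.mem_top _
          refine ⟨a1 * b1 * a1⁻¹ * b1⁻¹, hNcomm a1 ha1 b1 hb1, ?_⟩
          rw [map_commutatorElement, commutatorElement_def, ← ha, ← hb]
          simp [map_mul, map_inv]
        exact hle (hperf ▸ Subgroup.mem_top g)
      intro a b
      obtain ⟨a1, ha1, rfl⟩ : a ∈ (P : Subgroup G).map f := hPtop ▸ Subgroup.mem_top _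
      obtain ⟨b1, hb1, rfl⟩ : b ∈ (P : Subgroup G).map f := hPtop ▸ Subgroup.mem_top _
      rw [← map_mul, ← map_mul]
      congr 1
      exact congrArg Subtype.val ((isMulCommutative_of_prime_card
        (show (Nat.card ↥(P : Subgroup G)).Prime by
          rw [show Nat.card ↥(P : Subgroup G) = p from hP]; exact hp.out)).is_comm.comm
        (⟨a1, ha1⟩ : ↥(P : Subgroup G)) ⟨b1, hb1⟩)
    have hK1 : Nat.card ↥K ≠ 1 := fun h => hKb (Subgroup.card_eq_one.1 h)
    obtain ⟨i, hi⟩ : p ∣ (N.map f).index - 1 := by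
      have h1 : Nat.card (Sylow p G) ≡ 1 [MOD p] := card_sylow_modEq_one p G
      have h2 : (N.map f).index ≡ 1 [MOD p] := by
        have h3 := (hmod.mul_right (N.map f).index)
        rw [one_mul, ← hA] at h3
        exact h3.symm.trans h1
      exact (Nat.modEq_iff_dvd' (Nat.pos_of_ne_zero Subgroup.index_ne_zero_of_finite)).1 h2.symm
    obtain ⟨k, hk⟩ : p ∣ Nat.card ↥K - 1 := (Nat.modEq_iff_dvd' Nat.card_pos).1 hmod.symm
    have hi0 : 1 ≤ i := by
      rcases Nat.eq_zero_or_pos i with h | h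
      · subst h; have := Subgroup.index_ne_zero_of_finite (H := N.map f); omega
      · exact h
    have hk0 : 1 ≤ k := by
      rcases Nat.eq_zero_or_pos k with h | h
      · subst h; have := Nat.card_pos (α := ↥K); omega
      · exact h
    have h1 : (p + 1) * (p + 1) ≤ Nat.card (Sylow p G) := by
      rw [hA]
      refine Nat.mul_le_mul ?_ ?_
      · have := Nat.le_mul_of_pos_right p hk0
        have := Nat.card_pos (α := ↥K)
        omega
      · have := Nat.le_mul_of_pos_right p hi0
        have := Nat.pos_of_ne_zero (Subgroup.index_ne_zero_of_finite (H := N.map f))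
        omega
    rw [hn] at h1
    have h2 : 2 * n * p + 2 ≤ (p + 3) * p + 2 := by
      have := Nat.mul_le_mul_right p (show 2 * n ≤ p + 3 by omega)
      omega
    nlinarith [hp.out.two_le]

end Cfsg.Agent.SmallGroups.SelfCentPrime
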