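import Mathlib.Tactic
import Mathlib.Data.ZMod.Basic
import Mathlib.Data.Nat.Prime.Basic

/-!
# Arithmetic for groups with a self-centralizing Sylow subgroup of prime order `p` and `1 + n p` conjugates
-/

set_option autoImplicit false

namespace Cfsg.Agent.SmallGroups.SelfCentPrime

/-- A complementary pair `(u p + 1, v p - 1)` of divisors of `(p - 1) (1 + n p)`. -/
theorem pair_cases {p n : ℕ} (hp : 2 ≤ p) (hn : 2 * n < p + 3) {u v : ℕ} (hv : 1 ≤ v)
    (h : ((u : ℤ) * p + 1) * (v * p - 1) = (p - 1) * (1 + n * p)) :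
    (u = n ∧ v = 1) ∨ u = 0 := by
  have hp0 : (p : ℤ) ≠ 0 := by exact_mod_cast (by omega : p ≠ 0)
  have key : (p : ℤ) * ((u : ℤ) * v - n) = 1 - n + u - v := by
    refine mul_left_cancel₀ hp0 ?_
    linear_combination h
  have hpn : 2 * (n : ℤ) + 1 ≤ p + 3 := by exact_mod_cast (show 2 * n + 1 ≤ p + 3 by omega)
  have hv1 : (1 : ℤ) ≤ v := by exact_mod_cast hv
  have hu0 : (0 : ℤ) ≤ u := Int.natCast_nonneg _
  have hp2 : (2 : ℤ) ≤ p := by exact_mod_cast hp
  rcases Nat.eq_zero_or_pos u with h0 | hu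
  · exact .inr h0
  left
  have hu1 : (1 : ℤ) ≤ u := by exact_mod_cast hu
  have huuv : (u : ℤ) ≤ u * v := le_mul_of_one_le_right hu0 hv1
  have hvuv : (v : ℤ) ≤ u * v := le_mul_of_one_le_left (by linarith) hu1
  rcases lt_trichotomy ((u : ℤ) * v) n with hlt | heq | hgt
  · exfalso
    have h1 : (p : ℤ) * 1 ≤ p * ((n : ℤ) - u * v) := mul_le_mul_of_nonneg_left (by linarith) (by linarith)
    linarith
  · have huv : (v : ℤ) = 1 := by
      rw [heq, sub_self, mul_zero] at key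
      have h1 : ((v : ℤ) - 1) * (n + v) = 0 := by
        linear_combination heq + (v : ℤ) * key
      rcases mul_eq_zero.1 h1 with h' | h'
      · linarith
      · have : (0 : ℤ) ≤ n := Int.natCast_nonneg _
        linarith
    refine ⟨?_, by exact_mod_cast huv⟩
    rw [heq, sub_self, mul_zero] at key
    omega
  · exfalso
    have h1 : (2 : ℤ) * ((u : ℤ) * v - n) ≤ p * ((u : ℤ) * v - n) :=
      mul_le_mul_of_nonneg_right hp2 (by linarith)
    linarith

/-- Divisors of `(p - 1) (1 + n p)` congruent to `±1` modulo `p`. -/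
theorem divisor_cases {p n X : ℕ} (hp : 2 ≤ p) (hn : 2 * n < p + 3) {s : ℤ} (hs : s = 1 ∨ s = -1)
    (hX : X ∣ (p - 1) * (1 + n * p)) (hc : (p : ℤ) ∣ (X : ℤ) - s) :
    (s = 1 ∧ (X = 1 ∨ X = 1 + n * p)) ∨ (s = -1 ∧ (X = p - 1 ∨ X = (p - 1) * (1 + n * p))) := by
  obtain ⟨Y, hY⟩ := hX
  have hY' : (X : ℤ) * Y = ((p : ℤ) - 1) * (1 + n * p) := by
    have := congrArg (fun z : ℕ => (z : ℤ)) hY
    push_cast [Nat.cast_sub (show 1 ≤ p by omega)] at this
    linarith
  obtain ⟨k, hk⟩ := hc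
  have hXk : (X : ℤ) = k * p + s := by linarith
  have hp0 : (p : ℤ) ≠ 0 := by exact_mod_cast (by omega : p ≠ 0)
  have hpos : 0 < (p - 1) * (1 + n * p) := Nat.mul_pos (by omega) (by omega)
  have hX0 : 0 < X := by
    rcases Nat.eq_zero_or_pos X with h | h
    · rw [h, zero_mul] at hY; omega
    · exact h
  have hY0 : 0 < Y := by
    rcases Nat.eq_zero_or_pos Y with h | h
    · rw [h, mul_zero] at hY; omega
    · exact h
  have hp2 : (2 : ℤ) ≤ p := by exact_mod_cast hp
  obtain ⟨l, hl⟩ : (p : ℤ) ∣ (Y : ℤ) + s := by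
    refine ⟨s * (1 - n + n * p - k * Y), ?_⟩
    rcases hs with rfl | rfl
    · have : ((k : ℤ) * p + 1) * Y = ((p : ℤ) - 1) * (1 + n * p) := hXk ▸ hY'
      linear_combination this
    · have : ((k : ℤ) * p + -1) * Y = ((p : ℤ) - 1) * (1 + n * p) := hXk ▸ hY'
      linear_combination (-1 : ℤ) * this
  have hYl : (Y : ℤ) = l * p - s := by linarith
  have hXZ : (0 : ℤ) < X := by exact_mod_cast hX0
  have hYZ : (0 : ℤ) < Y := by exact_mod_cast hY0
  rcases hs with rfl | rfl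
  · left
    refine ⟨rfl, ?_⟩
    obtain ⟨u, rfl⟩ : ∃ u : ℕ, k = u := Int.eq_ofNat_of_zero_le (by nlinarith)
    obtain ⟨v, rfl⟩ : ∃ v : ℕ, l = v := Int.eq_ofNat_of_zero_le (by nlinarith)
    have hv : 1 ≤ v := by
      rcases Nat.eq_zero_or_pos v with h | h
      · subst h; simp at hYl
      · exact h
    rcases pair_cases hp hn hv (hXk ▸ hYl ▸ hY') with ⟨rfl, -⟩ | rfl
    · right; zify; linarith
    · left; zify; simpa using hXk
  · right
    refine ⟨rfl, ?_⟩
    obtain ⟨v, rfl⟩ : ∃ v : ℕ, k = v := Int.eq_ofNat_of_zero_le (by nlinarith)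
    obtain ⟨u, rfl⟩ : ∃ u : ℕ, l = u := Int.eq_ofNat_of_zero_le (by nlinarith)
    have hv : 1 ≤ v := by
      rcases Nat.eq_zero_or_pos v with h | h
      · subst h; simp at hXk
      · exact h
    have h' : ((u : ℤ) * p + 1) * (v * p - 1) = ((p : ℤ) - 1) * (1 + n * p) := by
      rw [← hY', hXk, hYl]; ring
    rcases pair_cases hp hn hv h' with ⟨rfl, rfl⟩ | rfl
    · left; zify [show 1 ≤ p by omega]; push_cast at hXk; linarith
    · right
      have : (Y : ℤ) = 1 := by simpa using hYl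
      rw [show Y = 1 by exact_mod_cast this, mul_one] at hY
      exact hY.symm

/-- Every divisor of `(p - 1) (1 + n p)` congruent to `1` modulo `p` is `1` or at least `1 + n p`. -/
def NF (p n : ℕ) : Prop :=
  ∀ D : ℕ, D ∣ (p - 1) * (1 + n * p) → D % p = 1 → D = 1 ∨ 1 + n * p ≤ D

/-- Few conjugates leave no intermediate divisor. -/
theorem NF.of_lt {p n : ℕ} (hp : 2 ≤ p) (hn : 2 * n < p + 3) : NF p n := by
  intro D hD hD1
  have hc : (p : ℤ) ∣ (D : ℤ) - 1 := by
    refine ⟨((D / p : ℕ) : ℤ), ?_⟩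
    have h := Nat.div_add_mod D p
    rw [hD1] at h
    have h' : ((p : ℤ) * ((D / p : ℕ) : ℤ) + 1) = (D : ℤ) := by exact_mod_cast h
    linarith
  rcases divisor_cases hp hn (.inl rfl) hD hc with ⟨-, h | h⟩ | ⟨h, -⟩
  · exact .inl h
  · exact .inr h.ge
  · exact absurd h (by decide)

/-- Divisors congruent to `±1`, from `NF`. -/
theorem divisor_cases_nf {p n X : ℕ} (hp : 2 ≤ p) (hnf : NF p n) {s : ℤ} (hs : s = 1 ∨ s = -1)
    (hX : X ∣ (p - 1) * (1 + n * p)) (hc : (p : ℤ) ∣ (X : ℤ) - s) :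
    (s = 1 ∧ (X = 1 ∨ X = 1 + n * p)) ∨ (s = -1 ∧ (X = p - 1 ∨ X = (p - 1) * (1 + n * p))) := by
  obtain ⟨Y, hY⟩ := id hX
  have hpos : 0 < (p - 1) * (1 + n * p) := Nat.mul_pos (by omega) (by omega)
  have hX0 : 0 < X := Nat.pos_of_ne_zero fun h => by rw [h, zero_mul] at hY; omega
  have hY0 : 0 < Y := Nat.pos_of_ne_zero fun h => by rw [h, mul_zero] at hY; omega
  have h1 : ((X * Y : ℕ) : ZMod p) = -1 := by
    rw [← hY]; push_cast [Nat.cast_sub (show 1 ≤ p by omega)]; simp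
  have hXs : (X : ZMod p) = (s : ZMod p) := by
    have := (ZMod.intCast_zmod_eq_zero_iff_dvd _ p).2 hc
    push_cast at this
    exact sub_eq_zero.1 this
  rw [Nat.cast_mul, hXs] at h1
  have hone : ∀ Z : ℕ, (Z : ZMod p) = 1 → Z % p = 1 := fun Z hZ => by
    have h := (ZMod.natCast_eq_natCast_iff' Z 1 p).1 (by rw [hZ, Nat.cast_one])
    rwa [Nat.one_mod_eq_one.2 (by omega)] at h
  rcases hs with rfl | rfl
  · refine .inl ⟨rfl, (hnf X hX (hone X (by simpa using hXs))).imp_right fun hA => ?_⟩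
    have hYle : Y ≤ p - 1 := by
      refine Nat.le_of_mul_le_mul_left ?_ (show 0 < 1 + n * p by omega)
      calc (1 + n * p) * Y ≤ X * Y := Nat.mul_le_mul_right _ hA
        _ = (1 + n * p) * (p - 1) := by rw [← hY, mul_comm]
    have hYp : Y = p - 1 := by
      have h2 : ((Y + 1 : ℕ) : ZMod p) = 0 := by push_cast; push_cast at h1; linear_combination h1
      have h3 := Nat.le_of_dvd (by omega) ((ZMod.natCast_eq_zero_iff _ _).1 h2)
      omega
    rw [hYp, mul_comm X] at hY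
    exact (Nat.eq_of_mul_eq_mul_left (by omega) hY).symm
  · refine .inr ⟨rfl, ?_⟩
    have hY1 : (Y : ZMod p) = 1 := by push_cast at h1; linear_combination -h1
    rcases hnf Y ⟨X, by rw [hY, mul_comm]⟩ (hone Y hY1) with h | h
    · right; rw [hY, h, mul_one]
    · left
      have hXle : X ≤ p - 1 := by
        refine Nat.le_of_mul_le_mul_right ?_ (show 0 < 1 + n * p by omega)
        exact le_trans (Nat.mul_le_mul_left X h) hY.ge
      have h2 : ((X + 1 : ℕ) : ZMod p) = 0 := by push_cast; rw [hXs]; push_cast; ring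
      have h3 := Nat.le_of_dvd (by omega) ((ZMod.natCast_eq_zero_iff _ _).1 h2)
      omega

end Cfsg.Agent.SmallGroups.SelfCentPrime
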