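import Cfsg.Agent.SmallGroups.OrderPSection
import Cfsg.Agent.SmallGroups.SelfCentPrime.Arith
import Cfsg.Agent.Char.Linear

/-!
# The normalizer of a self-centralizing subgroup of prime order and the fixed space of a character

For a character `χ`, the values on a complement `E` of `P` in its normalizer are those of the character of
`E` on the fixed space of `P`.
-/

set_option linter.style.haveILetI false
set_option linter.unusedSectionVars false

noncomputable section

namespace Cfsg.Agent.SmallGroups.SelfCentPrime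

open scoped Classical ComplexConjugate
open Cfsg Finset

universe u

variable {G : Type u} [Group G] [Fintype G] {p : ℕ} [hp : Fact p.Prime] (P : Sylow p G)

/-- `P` has order `p`, is its own centralizer, and `x` generates a complement of `P` in the normalizer. -/
structure Setup (x : G) (e : ℕ) : Prop where
  cardP : Nat.card P = p
  cent : Subgroup.centralizer ((P : Subgroup G) : Set G) = (P : Subgroup G)
  mem : x ∈ Subgroup.normalizer ((P : Subgroup G) : Set G)
  order : orderOf x = e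
  rel : (Subgroup.centralizer ((P : Subgroup G) : Set G)).relIndex
    (Subgroup.normalizer ((P : Subgroup G) : Set G)) = e

variable {P}

theorem card_normalizer {e : ℕ} (hP : Nat.card P = p)
    (hC : Subgroup.centralizer ((P : Subgroup G) : Set G) = (P : Subgroup G))
    (he : (Subgroup.centralizer ((P : Subgroup G) : Set G)).relIndex
      (Subgroup.normalizer ((P : Subgroup G) : Set G)) = e) :
    Nat.card ↥(Subgroup.normalizer ((P : Subgroup G) : Set G)) = p * e := by
  have h := Subgroup.relIndex_mul_relIndex ⊥ (P : Subgroup G) (Subgroup.normalizer ((P : Subgroup G) : Set G))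
    bot_le Subgroup.le_normalizer
  rw [Subgroup.relIndex_bot_left, Subgroup.relIndex_bot_left] at h
  rw [hC] at he
  rw [← h, he, hP]

/-- The data exist: the complement is cyclic. -/
theorem exists_setup {e : ℕ} (hP : Nat.card P = p)
    (hC : Subgroup.centralizer ((P : Subgroup G) : Set G) = (P : Subgroup G))
    (he : (Subgroup.centralizer ((P : Subgroup G) : Set G)).relIndex
      (Subgroup.normalizer ((P : Subgroup G) : Set G)) = e) :
    e ∣ p - 1 ∧ ∃ x, Setup P x e := by
  set N := Subgroup.normalizer ((P : Subgroup G) : Set G) with hN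
  have hker : ∀ g : N, g ∈ (P : Subgroup G).normalizerMonoidHom.ker ↔ (g : G) ∈ (P : Subgroup G) := by
    intro g
    rw [Subgroup.normalizerMonoidHom_ker, Subgroup.mem_subgroupOf, hC]
  have : IsCyclic ↥(P : Subgroup G) := isCyclic_of_prime_card hP
  let aut : MulAut ↥(P : Subgroup G) ≃* (ZMod p)ˣ :=
    (IsCyclic.mulAutMulEquiv ↥(P : Subgroup G)).trans
      (Units.mapEquiv (ZMod.ringEquivCongr (hP : Nat.card ↥(P : Subgroup G) = p)).toMulEquiv)
  let ι : ↥N →* (ZMod p)ˣ := aut.toMonoidHom.comp (P : Subgroup G).normalizerMonoidHom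
  have hι : ι.ker = (P : Subgroup G).subgroupOf N := by
    ext g
    rw [Subgroup.mem_subgroupOf, ← hker g, MonoidHom.mem_ker, MonoidHom.mem_ker]
    exact map_eq_one_iff aut.toMonoidHom aut.injective
  have hNc : Nat.card ↥N = p * e := card_normalizer hP hC he
  have hrc : Nat.card ι.range = e := by
    rw [← Subgroup.index_ker, hι]
    have h2 : (P : Subgroup G).relIndex N = e := by rw [← hC]; exact he
    exact h2
  refine ⟨?_, ?_⟩
  · rw [← hrc]
    have := Subgroup.card_subgroup_dvd_card ι.range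
    rwa [Nat.card_eq_fintype_card (α := (ZMod p)ˣ), ZMod.card_units] at this
  have hcyc : IsCyclic ↥ι.range := inferInstance
  obtain ⟨g₀, hg₀⟩ := hcyc.exists_generator
  obtain ⟨y, hy⟩ := g₀.2
  -- kill the `P`-part
  have hy0 : orderOf (ι y) = e := by
    rw [hy, Subgroup.orderOf_coe, orderOf_eq_card_of_forall_mem_zpowers hg₀, hrc]
  have he0 : 0 < e := hrc ▸ Nat.card_pos
  have hcop : Nat.Coprime p e := by
    refine (Nat.Prime.coprime_iff_not_dvd hp.out).2 fun h => ?_
    have h1 := Subgroup.card_subgroup_dvd_card ι.range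
    rw [hrc, Nat.card_eq_fintype_card (α := (ZMod p)ˣ), ZMod.card_units] at h1
    have := hp.out.two_le
    have h2 := Nat.le_of_dvd (by omega) (h.trans h1)
    omega
  refine ⟨((y ^ p : ↥N) : G), ⟨hP, hC, (y ^ p : ↥N).2, ?_, he⟩⟩
  rw [Subgroup.orderOf_coe]
  refine Nat.dvd_antisymm (orderOf_dvd_of_pow_eq_one ?_) ?_
  · rw [← pow_mul, ← hNc]
    exact pow_card_eq_one'
  · have h1 : orderOf (ι (y ^ p)) = e := by
      rw [map_pow, Nat.Coprime.orderOf_pow (by rw [hy0]; exact hcop.symm), hy0]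
    exact h1 ▸ orderOf_map_dvd ι (y ^ p)

variable {x : G} {e : ℕ} (S : Setup P x e)
include S

theorem Setup.e_pos : 0 < e := S.order ▸ orderOf_pos x

theorem Setup.e_dvd : e ∣ p - 1 := (exists_setup S.cardP S.cent S.rel).1

theorem Setup.not_dvd_orderOf {y : G} (hy : y ∈ Subgroup.zpowers x) : ¬ p ∣ orderOf y := by
  intro h
  have h1 : orderOf y ∣ e := by
    rw [← S.order, ← Nat.card_zpowers x]; exact Subgroup.orderOf_dvd_natCard _ hy
  have := hp.out.two_le
  have h2 := Nat.le_of_dvd (by omega) ((h.trans h1).trans S.e_dvd)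
  omega

theorem Setup.centralizer_eq {v : G} (hv : v ∈ (P : Subgroup G)) (hv1 : v ≠ 1) :
    Subgroup.centralizer ({v} : Set G) = (P : Subgroup G) := by
  rw [Brauer.OrderP.centralizer_eq P S.cardP hv hv1, S.cent]

theorem Setup.card_centralizer {v : G} (hv : v ∈ (P : Subgroup G)) (hv1 : v ≠ 1) :
    Nat.card ↥(Subgroup.centralizer ({v} : Set G)) = p := by
  rw [S.centralizer_eq hv hv1]; exact S.cardP

theorem Setup.eq_one_of_mem {y : G} (hy : y ∈ Subgroup.zpowers x) (hyP : y ∈ (P : Subgroup G)) :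
    y = 1 := by
  by_contra h
  refine S.not_dvd_orderOf hy ?_
  have := S.cardP ▸ Subgroup.orderOf_dvd_natCard _ hyP
  rcases (Nat.dvd_prime hp.out).1 this with h1 | h1
  · exact absurd (orderOf_eq_one_iff.1 h1) h
  · exact dvd_of_eq h1.symm

theorem Setup.mem_normalizer {y : G} (hy : y ∈ Subgroup.zpowers x) :
    y ∈ Subgroup.normalizer ((P : Subgroup G) : Set G) :=
  Subgroup.zpowers_le.2 S.mem hy

theorem Setup.eq_one_of_commute {y v : G} (hy : y ∈ Subgroup.zpowers x) (hy1 : y ≠ 1)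
    (hv : v ∈ (P : Subgroup G)) (hc : y * v = v * y) : v = 1 := by
  by_contra h
  refine hy1 (S.eq_one_of_mem hy ?_)
  rw [← S.centralizer_eq hv h, Subgroup.mem_centralizer_singleton_iff]
  exact hc

/-- Every element of the coset `P y` is conjugate to `y` by an element of `P`. -/
theorem Setup.exists_conj {y v : G} (hy : y ∈ Subgroup.zpowers x) (hy1 : y ≠ 1)
    (hv : v ∈ (P : Subgroup G)) : ∃ w ∈ (P : Subgroup G), w * y * w⁻¹ = v * y := by
  have hN := S.mem_normalizer hy
  let f : ↥(P : Subgroup G) → ↥(P : Subgroup G) := fun w =>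
    ⟨w * (y * (w : G)⁻¹ * y⁻¹), mul_mem w.2 ((Subgroup.mem_normalizer_iff.1 hN _).1 (inv_mem w.2))⟩
  have hf : Function.Injective f := by
    intro a b h
    have h1 : (a : G) * (y * (a : G)⁻¹ * y⁻¹) = (b : G) * (y * (b : G)⁻¹ * y⁻¹) := congrArg Subtype.val h
    have h2 : y * ((b : G)⁻¹ * a) = ((b : G)⁻¹ * a) * y := by
      have e1 : (b : G)⁻¹ * ((a : G) * (y * (a : G)⁻¹ * y⁻¹)) * (y * a)
          = (b : G)⁻¹ * ((b : G) * (y * (b : G)⁻¹ * y⁻¹)) * (y * a) := by rw [h1]
      calc y * ((b : G)⁻¹ * a) = (b : G)⁻¹ * ((b : G) * (y * (b : G)⁻¹ * y⁻¹)) * (y * a) := by group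
        _ = (b : G)⁻¹ * a * y := by rw [← e1]; group
    exact Subtype.ext (inv_mul_eq_one.1 (S.eq_one_of_commute hy hy1 (mul_mem (inv_mem b.2) a.2) h2)).symm
  obtain ⟨w, hw⟩ := (Finite.injective_iff_bijective.1 hf).2 ⟨v, hv⟩
  refine ⟨w, w.2, ?_⟩
  have h1 : (w : G) * (y * (w : G)⁻¹ * y⁻¹) = v := congrArg Subtype.val hw
  rw [← h1]; group

theorem Setup.apply_coset {χ : G → ℂ} (hχ : Cfsg.IsClassFunction G χ) {y v : G}
    (hy : y ∈ Subgroup.zpowers x) (hy1 : y ≠ 1) (hv : v ∈ (P : Subgroup G)) : χ (v * y) = χ y := by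
  obtain ⟨w, -, hw⟩ := S.exists_conj hy hy1 hv
  rw [← hw, hχ]

/-- The character of the complement on the fixed space of `P`. -/
theorem Setup.exists_fixed_decomp {χ : G → ℂ} (hχ : Cfsg.IsCharacter G χ) :
    ∃ (m : ℕ) (a : Cfsg.IrrCharacter ↥(Subgroup.zpowers x) → ℕ),
      (m : ℂ) * p = ∑ v : ↥(P : Subgroup G), χ v ∧ ∑ μ, a μ = m ∧
      (∀ y : ↥(Subgroup.zpowers x), y ≠ 1 →
        χ y = ∑ μ, (a μ : ℂ) * (μ : ↥(Subgroup.zpowers x) → ℂ) y) ∧
      ∀ μ : Cfsg.IrrCharacter ↥(Subgroup.zpowers x),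
        (a μ : ℂ) * e = m + ∑ y ∈ (Finset.univ : Finset ↥(Subgroup.zpowers x)).erase 1,
          χ y * conj ((μ : ↥(Subgroup.zpowers x) → ℂ) y) := by
  set N := Subgroup.normalizer ((P : Subgroup G) : Set G) with hN
  set E := Subgroup.zpowers x with hE
  set Q := (P : Subgroup G).subgroupOf N with hQ
  have hQn : Q.Normal := Subgroup.normal_subgroupOf_iff_le_normalizer Subgroup.le_normalizer |>.2 le_rfl
  let ι : ↥E →* ↥N ⧸ Q := (QuotientGroup.mk' Q).comp (Subgroup.inclusion fun y hy => S.mem_normalizer hy)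
  have hιinj : Function.Injective ι := by
    rw [injective_iff_map_eq_one]
    intro y hy
    have : Subgroup.inclusion (fun y hy => S.mem_normalizer hy) y ∈ Q := (QuotientGroup.eq_one_iff _).1 hy
    exact Subtype.ext (S.eq_one_of_mem y.2 (Subgroup.mem_subgroupOf.1 this))
  have hcQ : Nat.card (↥N ⧸ Q) = e := by
    rw [← Subgroup.index_eq_card]
    have h2 : (P : Subgroup G).relIndex N = e := by rw [← S.cent]; exact S.rel
    exact h2
  have hcE : Nat.card ↥E = e := by rw [Nat.card_zpowers, S.order]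
  have hιbij : Function.Bijective ι :=
    (Nat.bijective_iff_injective_and_card ι).2 ⟨hιinj, by rw [hcE, hcQ]⟩
  let π : ↥N →* ↥E := (MulEquiv.ofBijective ι hιbij).symm.toMonoidHom.comp (QuotientGroup.mk' Q)
  have hπ : ∀ (v : G) (hv : v ∈ (P : Subgroup G)) (y : ↥E),
      π ⟨v * y, mul_mem (Subgroup.le_normalizer hv) (S.mem_normalizer y.2)⟩ = y := by
    intro v hv y
    refine (MulEquiv.symm_apply_eq (MulEquiv.ofBijective ι hιbij)).2 ?_
    show QuotientGroup.mk' Q _ = QuotientGroup.mk' Q _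
    rw [QuotientGroup.mk'_apply, QuotientGroup.mk'_apply, QuotientGroup.eq, Subgroup.mem_subgroupOf]
    show (v * (y : G))⁻¹ * y ∈ (P : Subgroup G)
    rw [show (v * (y : G))⁻¹ * y = (y : G)⁻¹ * v⁻¹ * ((y : G)⁻¹)⁻¹ by group]
    exact (Subgroup.mem_normalizer_iff.1 (inv_mem (S.mem_normalizer y.2)) _).1 (inv_mem hv)
  let φ : ↥(P : Subgroup G) × ↥E → ↥N := fun q =>
    ⟨q.1 * q.2, mul_mem (Subgroup.le_normalizer q.1.2) (S.mem_normalizer q.2.2)⟩
  have hφ : Function.Bijective φ := by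
    refine (Nat.bijective_iff_injective_and_card φ).2 ⟨?_, by
      rw [Nat.card_prod, hcE, card_normalizer S.cardP S.cent S.rel, S.cardP]⟩
    rintro ⟨v, y⟩ ⟨v', y'⟩ h
    have h1 : (v : G) * y = v' * y' := congrArg Subtype.val h
    have h2 : (v' : G)⁻¹ * v = y' * (y : G)⁻¹ := by
      calc (v' : G)⁻¹ * v = (v' : G)⁻¹ * ((v : G) * y) * (y : G)⁻¹ := by group
        _ = y' * (y : G)⁻¹ := by rw [h1]; group
    have h3 := S.eq_one_of_mem (mul_mem y'.2 (inv_mem y.2)) (h2 ▸ mul_mem (inv_mem v'.2) v.2)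
    have hy : y' = y := Subtype.ext (mul_inv_eq_one.1 h3)
    subst hy
    have hv : v = v' := Subtype.ext (mul_right_cancel h1)
    rw [hv]
  have hcl : Cfsg.IsClassFunction G χ := Char.isCharacter_isClassFunction hχ
  have hcomm : ∀ a b : ↥E, a * b = b * a := fun a b => (inferInstance : IsMulCommutative ↥E).is_comm.comm a b
  have hp0 : (p : ℂ) ≠ 0 := Nat.cast_ne_zero.2 hp.out.ne_zero
  have he0 : (e : ℂ) ≠ 0 := Nat.cast_ne_zero.2 S.e_pos.ne'
  set F : ↥E → ℂ := fun y => if y = 1 then (p : ℂ)⁻¹ * ∑ v : ↥(P : Subgroup G), χ v else χ y with hF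
  have hcoef : ∀ μ : Cfsg.IrrCharacter ↥E, ∃ k : ℕ,
      (k : ℂ) * e = ∑ y : ↥E, F y * conj ((μ : ↥E → ℂ) y) := by
    intro μ
    obtain ⟨f, hf⟩ := Char.irr_exists_monoidHom_of_comm hcomm μ.2
    obtain ⟨k, hk⟩ := Char.isCharacter_classInner_nat
      (Char.isCharacter_restrict hχ N) ⟨_, Char.isIrrCharacter_monoidHom (f.comp π)⟩
    refine ⟨k, ?_⟩
    rw [Cfsg.classInner, ← Fintype.sum_bijective φ hφ _ _ (fun _ => rfl), Fintype.sum_prod_type_right] at hk
    have hin : ∀ y : ↥E, ∑ v : ↥(P : Subgroup G), χ ((φ (v, y) : ↥N) : G) * conj ((f.comp π) (φ (v, y)) : ℂ)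
        = (p : ℂ) * (F y * conj ((μ : ↥E → ℂ) y)) := by
      intro y
      have e1 : ∀ v : ↥(P : Subgroup G), ((f.comp π) (φ (v, y)) : ℂ) = (μ : ↥E → ℂ) y := fun v => by
        rw [hf, MonoidHom.comp_apply, hπ v v.2 y]
      simp only [e1, ← Finset.sum_mul]
      rw [← mul_assoc]
      congr 1
      show ∑ v : ↥(P : Subgroup G), χ ((v : G) * y) = (p : ℂ) * F y
      simp only [hF]
      split_ifs with h1
      · subst h1
        simp only [OneMemClass.coe_one, mul_one]
        rw [mul_inv_cancel_left₀ hp0]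
      · rw [Finset.sum_congr rfl fun v _ => S.apply_coset hcl y.2 (fun h => h1 (Subtype.ext h)) v.2,
          Finset.sum_const, Finset.card_univ, ← Nat.card_eq_fintype_card,
          show Nat.card ↥(P : Subgroup G) = p from S.cardP, nsmul_eq_mul]
    rw [Finset.sum_congr rfl (fun y _ => hin y), ← Finset.mul_sum,
      card_normalizer S.cardP S.cent S.rel, Nat.cast_mul] at hk
    rw [← hk]
    field_simp
  choose a ha using hcoef
  have hcentE : ∀ z : ↥E, Nat.card ↥(Subgroup.centralizer ({z} : Set ↥E)) = e := fun z => by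
    rw [show Subgroup.centralizer ({z} : Set ↥E) = ⊤ from eq_top_iff.2 fun w _ =>
      Subgroup.mem_centralizer_singleton_iff.2 (hcomm w z), Subgroup.card_top, hcE]
  have hinv : ∀ z : ↥E, ∑ μ : Cfsg.IrrCharacter ↥E, (a μ : ℂ) * (μ : ↥E → ℂ) z = F z := by
    intro z
    refine mul_left_cancel₀ he0 ?_
    rw [Finset.mul_sum, Finset.sum_congr rfl (g := fun μ : Cfsg.IrrCharacter ↥E =>
      ∑ y : ↥E, F y * ((μ : ↥E → ℂ) z * conj ((μ : ↥E → ℂ) y))) (fun μ _ => by
        rw [← mul_assoc, mul_comm (e : ℂ), ha, Finset.sum_mul]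
        exact Finset.sum_congr rfl fun y _ => by ring), Finset.sum_comm]
    simp only [← Finset.mul_sum, Char.sum_irr_mul_conj, hcentE]
    rw [Finset.sum_eq_single z (fun y _ hy => by
      rw [if_neg fun h => hy ?_, mul_zero]
      obtain ⟨c, hc⟩ := isConj_iff.1 h
      rw [← hc, hcomm c z, mul_inv_cancel_right]) (fun h => absurd (Finset.mem_univ _) h),
      if_pos (IsConj.refl z), mul_comm]
  have hμ1 : ∀ μ : Cfsg.IrrCharacter ↥E, (μ : ↥E → ℂ) 1 = 1 := fun μ =>
    Char.irr_degree_one_of_comm hcomm μ.2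
  have hm : ((∑ μ, a μ : ℕ) : ℂ) = F 1 := by
    rw [← hinv 1]
    simp [hμ1]
  refine ⟨∑ μ, a μ, a, ?_, rfl, fun y hy => ?_, fun μ => ?_⟩
  · rw [hm]
    simp only [hF, if_pos]
    field_simp
  · rw [hinv y]
    simp [hF, hy]
  · rw [ha μ, ← Finset.add_sum_erase _ _ (Finset.mem_univ (1 : ↥E)), hm, hμ1 μ, map_one, mul_one]
    congr 1
    exact Finset.sum_congr rfl fun y hy => by
      simp only [hF, if_neg (Finset.ne_of_mem_erase hy)]

end Cfsg.Agent.SmallGroups.SelfCentPrime
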