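import Cfsg.Agent.SmallGroups.OrderPSection
import Cfsg.Agent.SmallGroups.PSLRecognition
import Cfsg.Agent.SmallGroups.SelfCentPrime.Structure

/-!
# Simple groups of order less than `p ^ 3`: the Sylow `p`-subgroup is self-centralizing
-/

set_option linter.style.haveILetI false
set_option linter.unusedSectionVars false

noncomputable section

namespace Cfsg.Agent.SmallGroups.SelfCentPrime

open scoped Classical ComplexConjugate
open Cfsg Finset

universe u

variable {G : Type u} [Group G] [Fintype G] [IsSimpleGroup G] {p : ℕ} [hp : Fact p.Prime]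

omit [IsSimpleGroup G] in
/-- A principal block character of degree less than `p` is trivial on `C(P)` off `P`. -/
theorem value_eq_degree_of_small_degree (P : Sylow p G) (hP : Nat.card P = p)
    {χ : Cfsg.IrrCharacter G} {M : Ideal Cfsg.AlgInt} (hM : Cfsg.IsPModular p M)
    (hB : χ ∈ Cfsg.principalBlock M G) {f : ℕ} (hf : (χ : G → ℂ) 1 = f) (hfp : f < p)
    {v : G} (hv : v ∈ Subgroup.centralizer ((P : Subgroup G) : Set G)) (hvp : ¬ p ∣ orderOf v) :
    (χ : G → ℂ) v = (χ : G → ℂ) 1 := by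
  obtain ⟨x, hx⟩ : ∃ x : ↥(P : Subgroup G), orderOf x = p :=
    exists_prime_orderOf_dvd_card' p (dvd_of_eq hP.symm)
  have hx1 : (x : G) ≠ 1 := fun h => by
    rw [show x = 1 from Subtype.ext h, orderOf_one] at hx
    exact hp.out.ne_one hx.symm
  have hxo : orderOf (x : G) = p := by rw [Subgroup.orderOf_coe, hx]
  have hxv : Commute (x : G) v := Subgroup.mem_centralizer_iff.1 hv x x.2
  set o := orderOf v with ho
  have hcop : Nat.Coprime p o := hp.out.coprime_iff_not_dvd.2 hvp
  set g := (x : G) * v with hgdef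
  -- `x` and `v` are powers of `g`
  obtain ⟨a, ha⟩ : ∃ a : ℕ, g ^ a = v := by
    have hg : g ^ p = v ^ p := by
      rw [hgdef, hxv.mul_pow, show (x : G) ^ p = 1 from orderOf_dvd_iff_pow_eq_one.1 hxo.dvd, one_mul]
    obtain ⟨k, hk⟩ := exists_pow_eq_self_of_coprime (x := v) hcop
    exact ⟨p * k, by rw [pow_mul, hg, hk]⟩
  obtain ⟨b, hb⟩ : ∃ b : ℕ, g ^ b = (x : G) := by
    have hg : g ^ o = (x : G) ^ o := by
      rw [hgdef, hxv.mul_pow, show v ^ o = 1 from pow_orderOf_eq_one v, mul_one]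
    obtain ⟨k, hk⟩ := exists_pow_eq_self_of_coprime (x := (x : G)) (n := o) (by rw [hxo]; exact hcop.symm)
    exact ⟨o * k, by rw [pow_mul, hg, hk]⟩
  obtain ⟨N, ρ, hρ⟩ := Char.isCharacter_of_irr χ.2
  obtain ⟨η, hη, hpow⟩ := Char.exists_character_eq_sum_roots ρ g
  rw [hρ] at hpow
  have hN : Module.finrank ℂ (Fin N → ℂ) = f := by
    have h := hρ ▸ ρ.char_one
    rw [hf] at h
    exact_mod_cast h.symm
  have hz : ∀ i, (η i ^ b) ^ p = 1 := by
    intro i
    have h1 : g ^ (b * p) = 1 := by rw [pow_mul, hb]; exact orderOf_dvd_iff_pow_eq_one.1 hxo.dvd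
    obtain ⟨k, hk⟩ := orderOf_dvd_of_pow_eq_one h1
    rw [← pow_mul, hk, pow_mul, hη, one_pow]
  -- a root of unity of order dividing `p` that is not an eigenvalue
  obtain ⟨ζ, hζ, hζn⟩ : ∃ ζ : ℂ, ζ ^ p = 1 ∧ ∀ i, η i ^ b ≠ ζ := by
    by_contra hcon
    push Not at hcon
    have h1 : Polynomial.nthRootsFinset p (1 : ℂ) ⊆ Finset.univ.image fun i => η i ^ b := by
      intro ζ hζ
      rw [Polynomial.mem_nthRootsFinset hp.out.pos] at hζ
      obtain ⟨i, hi⟩ := hcon ζ hζ
      exact Finset.mem_image.2 ⟨i, Finset.mem_univ _, hi⟩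
    have h2 := (Finset.card_le_card h1).trans Finset.card_image_le
    rw [(Complex.isPrimitiveRoot_exp p hp.out.ne_zero).card_nthRootsFinset, Finset.card_univ,
      Fintype.card_fin, hN] at h2
    omega
  have hζ0 : ζ ≠ 0 := by
    rintro rfl
    rw [zero_pow hp.out.ne_zero] at hζ
    exact zero_ne_one hζ
  have hzero : ∀ i, ∑ k ∈ Finset.range p, (η i ^ b / ζ) ^ k = 0 := by
    intro i
    have hne : η i ^ b / ζ ≠ 1 := fun h => hζn i ((div_eq_one_iff_eq hζ0).1 h)
    rw [geom_sum_eq hne, div_pow, hz, hζ, div_one, sub_self, zero_div]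
  have hdiff : ∀ k ∈ Finset.range p, k ≠ 0 → ∑ i, η i ^ a * (η i ^ b) ^ k - ∑ i, (η i ^ b) ^ k = 0 := by
    intro k hk hk0
    have hxk : (x : G) ^ k ∈ (P : Subgroup G) := pow_mem x.2 k
    have hxk1 : (x : G) ^ k ≠ 1 := fun h => by
      have h1 := Nat.le_of_dvd (Nat.pos_of_ne_zero hk0) (hxo ▸ orderOf_dvd_of_pow_eq_one h)
      have := Finset.mem_range.1 hk
      omega
    have h := OrderP.apply_mul_regular hM P hP hB hxk hxk1 hv hvp
    rw [← ha, ← hb, ← pow_mul, ← pow_add, hpow, hpow] at h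
    rw [sub_eq_zero]
    refine Eq.trans (Finset.sum_congr rfl fun i _ => ?_) (h.trans (Finset.sum_congr rfl fun i _ => ?_))
    · rw [← pow_mul, ← pow_add, add_comm]
    · rw [pow_mul]
  have hkey : (χ : G → ℂ) v = (χ : G → ℂ) 1 := by
    have h1 : ∑ k ∈ Finset.range p, (ζ⁻¹) ^ k * (∑ i, η i ^ a * (η i ^ b) ^ k - ∑ i, (η i ^ b) ^ k) = 0 := by
      simp only [← Finset.sum_sub_distrib, Finset.mul_sum]
      rw [Finset.sum_comm]
      refine Finset.sum_eq_zero fun i _ => ?_
      have e1 : ∀ k : ℕ, (ζ⁻¹) ^ k * (η i ^ a * (η i ^ b) ^ k - (η i ^ b) ^ k)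
          = (η i ^ a - 1) * (η i ^ b / ζ) ^ k := fun k => by rw [div_pow, inv_pow]; ring
      simp only [e1, ← Finset.mul_sum, hzero, mul_zero]
    rw [Finset.sum_eq_single 0 (fun k hk hk0 => by rw [hdiff k hk hk0, mul_zero])
      (fun h => absurd (Finset.mem_range.2 hp.out.pos) h)] at h1
    simp only [pow_zero, mul_one, one_mul, sub_eq_zero] at h1
    rw [← ha, hpow, ← pow_zero g, hpow]
    simpa using h1
  exact hkey

/-- A principal block character of degree less than `p` forces `C(P) = P`. -/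
theorem eq_one_of_small_degree (hG : ¬ IsMulCommutative G) (P : Sylow p G) (hP : Nat.card P = p)
    {χ : Cfsg.IrrCharacter G} {M : Ideal Cfsg.AlgInt} (hM : Cfsg.IsPModular p M)
    (hB : χ ∈ Cfsg.principalBlock M G) {f : ℕ} (hf : (χ : G → ℂ) 1 = f) (hfp : f < p) (hf1 : 1 < f)
    {v : G} (hv : v ∈ Subgroup.centralizer ((P : Subgroup G) : Set G)) (hvp : ¬ p ∣ orderOf v) :
    v = 1 := by
  have hkey := value_eq_degree_of_small_degree P hP hM hB hf hfp hv hvp
  obtain ⟨K, hK, hKmem⟩ := Char.isCharacter_exists_kernel (Char.isCharacter_of_irr χ.2)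
  rcases hK.eq_bot_or_eq_top with h | h
  · have hmem := (hKmem v).2 hkey
    rw [h] at hmem
    exact Subgroup.mem_bot.1 hmem
  · exfalso
    have hconst : ∀ g, (χ : G → ℂ) g = f := fun g => ((hKmem g).1 (h ▸ Subgroup.mem_top g)).trans hf
    have h1 := Char.classInner_irr_self χ.2
    simp only [Cfsg.classInner, hconst, map_natCast, Finset.sum_const, Finset.card_univ, nsmul_eq_mul,
      ← Nat.card_eq_fintype_card] at h1
    rw [inv_mul_cancel_left₀ Char.card_ne_zero_complex] at h1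
    have h2 : f * f = 1 := by exact_mod_cast h1
    nlinarith

/-- With two conjugates outside, the group `P` is its own centralizer. -/
theorem centralizer_eq_of_card_eq (hG : ¬ IsMulCommutative G) (P : Sylow p G) (hP : Nat.card P = p)
    (hn : Nat.card (Sylow p G) = p + 1) :
    Subgroup.centralizer ((P : Subgroup G) : Set G) = (P : Subgroup G) := by
  classical
  have hd : p ∣ Nat.card G := hP ▸ Subgroup.card_subgroup_dvd_card (P : Subgroup G)
  have hPc : ∀ Q : Sylow p G, Nat.card ↥(Q : Subgroup G) = p := fun Q =>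
    (Nat.card_congr (Q.equiv P).toEquiv).trans hP
  have hcomm : IsMulCommutative ↥(P : Subgroup G) :=
    isMulCommutative_of_prime_card (by rw [hPc P]; exact hp.out)
  refine le_antisymm (fun v hv => ?_) (P : Subgroup G).le_centralizer
  obtain ⟨Q, hQ⟩ : ∃ Q : Sylow p G, Q ≠ P := by
    have : Nontrivial (Sylow p G) := Finite.one_lt_card_iff_nontrivial.1 (by
      rw [hn]; have := hp.out.two_le; omega)
    exact exists_ne P
  have hPfix : ∀ w ∈ (P : Subgroup G), w • P = P := fun w hw =>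
    Sylow.smul_eq_iff_mem_normalizer.2 (Subgroup.le_normalizer hw)
  have hfree : ∀ w ∈ (P : Subgroup G), ∀ R : Sylow p G, R ≠ P → w • R = R → w = 1 := by
    intro w hw R hR hwR
    by_contra hw1
    have ho : orderOf w = p := by
      have := hPc P ▸ Subgroup.orderOf_dvd_natCard _ hw
      exact ((Nat.dvd_prime hp.out).1 this).resolve_left (by simpa using hw1)
    have hwR' : w ∈ (R : Subgroup G) := by
      have h3 := (IsPGroup.of_card (n := 1) (by rw [Nat.card_zpowers, ho, pow_one]) :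
        IsPGroup p ↥(Subgroup.zpowers w)).inf_normalizer_sylow R
      exact inf_eq_left.mp (h3.symm.trans (inf_eq_left.mpr (Subgroup.zpowers_le.mpr
        (Sylow.smul_eq_iff_mem_normalizer.mp hwR)))) (Subgroup.mem_zpowers w)
    refine hR (Sylow.ext ?_)
    rw [← Subgroup.eq_of_le_of_card_ge (Subgroup.zpowers_le.2 hw) (by rw [hPc P, Nat.card_zpowers, ho]),
      ← Subgroup.eq_of_le_of_card_ge (Subgroup.zpowers_le.2 hwR') (by rw [hPc R, Nat.card_zpowers, ho])]
  have hsurj : ∀ R : Sylow p G, R ≠ P → ∃ w ∈ (P : Subgroup G), w • Q = R := by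
    intro R hR
    let f : ↥(P : Subgroup G) → {R : Sylow p G // R ≠ P} := fun w => ⟨(w : G) • Q, fun h => hQ (by
      exact MulAction.injective (w : G) (h.trans (hPfix _ w.2).symm))⟩
    have hf : Function.Injective f := by
      intro w w' h
      have h1 : (w : G) • Q = (w' : G) • Q := congrArg Subtype.val h
      refine Subtype.ext (inv_mul_eq_one.1 (hfree _ (mul_mem (inv_mem w'.2) w.2) Q hQ ?_)).symm
      rw [mul_smul, h1, inv_smul_smul]
    have := Fintype.ofFinite (Sylow p G)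
    have hbij : Function.Bijective f := (Nat.bijective_iff_injective_and_card f).2 ⟨hf, by
      rw [hPc P, Nat.card_eq_fintype_card, Fintype.card_subtype_compl, Fintype.card_subtype_eq,
        ← Nat.card_eq_fintype_card, hn, Nat.add_sub_cancel]⟩
    obtain ⟨w, hw⟩ := hbij.2 ⟨R, hR⟩
    exact ⟨w, w.2, congrArg Subtype.val hw⟩
  have hvP : v • P = P := Sylow.smul_eq_iff_mem_normalizer.2 (Subgroup.centralizer_le_normalizer _ hv)
  have hvQ : v • Q ≠ P := fun h => hQ (MulAction.injective v (h.trans hvP.symm))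
  obtain ⟨w, hw, hwQ⟩ := hsurj _ hvQ
  -- `w⁻¹ v` fixes every point
  have hu : w⁻¹ * v = 1 := by
    refine faithful_sylow hG hd fun R => ?_
    by_cases hR : R = P
    · rw [hR, mul_smul, hvP, hPfix _ (inv_mem hw)]
    · obtain ⟨s, hs, rfl⟩ := hsurj R hR
      have hcs : w⁻¹ * v * s = s * (w⁻¹ * v) := by
        have e1 : v * s = s * v := (Subgroup.mem_centralizer_iff.1 hv s hs).symm
        have e2 : w⁻¹ * s = s * w⁻¹ :=
          congrArg Subtype.val (hcomm.is_comm.comm (⟨w⁻¹, inv_mem hw⟩ : ↥(P : Subgroup G)) ⟨s, hs⟩)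
        rw [mul_assoc, e1, ← mul_assoc, e2, mul_assoc]
      rw [← mul_smul, hcs, mul_smul, mul_smul, ← hwQ, inv_smul_smul]
  rw [show v = w by rw [← mul_one w, ← hu, mul_inv_cancel_left]]
  exact hw

omit [IsSimpleGroup G] in
/-- Cofactors of the degrees `≡ ± 1`. -/
theorem degree_cases_X {K A n X : ℕ} {s : ℤ} (hA : A = 1 + n * p) (hKn : K * n < p) (h2 : 2 * K < p)
    (hK : 1 ≤ K)
    (hn : 1 ≤ n) (hs : s = 1 ∨ s = -1) (hX : X ∣ K * A) (hXp : p ≤ X) (hc : (p : ℤ) ∣ (X : ℤ) - s) :
    s = 1 ∧ X = A := by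
  obtain ⟨Y, hY⟩ := hX
  obtain ⟨k, hk⟩ := hc
  have hY' : (X : ℤ) * Y = (K : ℤ) * (1 + n * p) := by
    have := congrArg (fun z : ℕ => (z : ℤ)) hY
    rw [hA] at this
    push_cast at this
    linarith
  have hp0 : (p : ℤ) ≠ 0 := by exact_mod_cast hp.out.ne_zero
  have hY0 : 0 < Y := by
    rcases Nat.eq_zero_or_pos Y with h | h
    · subst h
      rw [mul_zero] at hY
      have : 0 < K * A := Nat.mul_pos hK (by omega)
      omega
    · exact h
  have hYp : (Y : ℤ) * p ≤ (K : ℤ) * (1 + n * p) := by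
    rw [← hY', mul_comm (X : ℤ)]
    exact mul_le_mul_of_nonneg_left (by exact_mod_cast hXp) (Int.natCast_nonneg _)
  have hKnZ : (K : ℤ) * n < p := by exact_mod_cast hKn
  have h2Z : 2 * (K : ℤ) < p := by exact_mod_cast h2
  have hK0 : (1 : ℤ) ≤ K := by exact_mod_cast hK
  have hYle : (Y : ℤ) ≤ (K : ℤ) * n := by
    by_contra h
    have := mul_le_mul_of_nonneg_right (show (K : ℤ) * n + 1 ≤ Y by omega) (Int.natCast_nonneg p)
    linarith
  have hmod : (p : ℤ) ∣ s * Y - K := ⟨(K : ℤ) * n - k * Y, by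
    have hX' : (X : ℤ) = p * k + s := by linarith
    rw [hX'] at hY'
    linear_combination hY'⟩
  have hY1 : (1 : ℤ) ≤ Y := by exact_mod_cast hY0
  obtain ⟨l, hl⟩ := hmod
  rcases hs with rfl | rfl
  · refine ⟨rfl, ?_⟩
    have hl0 : l = 0 := by
      have h3 : -1 < l := by by_contra h'; nlinarith
      have h4 : l < 1 := by by_contra h'; nlinarith
      omega
    rw [hl0, mul_zero, one_mul, sub_eq_zero] at hl
    have hYK : Y = K := by exact_mod_cast hl
    rw [hYK, mul_comm X] at hY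
    exact (Nat.eq_of_mul_eq_mul_left hK hY).symm
  · exfalso
    have hl0 : l = -1 := by
      have h3 : -2 < l := by by_contra h'; nlinarith
      have h4 : l < 0 := by by_contra h'; nlinarith
      omega
    have hYK : (Y : ℤ) = p - K := by rw [hl0] at hl; linarith
    have hX' : (X : ℤ) = p * k - 1 := by linarith
    rw [hX', hYK] at hY'
    have hu : k * ((p : ℤ) - K) = (K : ℤ) * n + 1 := mul_left_cancel₀ hp0 (by linear_combination hY')
    have hk2 : 2 ≤ k := by
      by_contra h'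
      have h5 : k * p ≤ 1 * p := mul_le_mul_of_nonneg_right (by omega) (Int.natCast_nonneg _)
      have : (p : ℤ) ≤ X := by exact_mod_cast hXp
      linarith
    have h6 : 2 * ((p : ℤ) - K) ≤ k * ((p : ℤ) - K) := mul_le_mul_of_nonneg_right hk2 (by linarith)
    linarith

omit [IsSimpleGroup G] in
/-- Cofactors of the degrees `≡ ± e`. -/
theorem degree_cases_Y {e c A n X : ℕ} {s : ℤ} (hA : A = 1 + n * p) (hKn : e * c * n < p)
    (h2 : 2 * (e * c) < p) (he : 2 ≤ e) (hc0 : 1 ≤ c) (hn : 1 ≤ n) (hs : s = 1 ∨ s = -1)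
    (hX : X ∣ e * c * A) (hXp : p ≤ X) (hc : (p : ℤ) ∣ (X : ℤ) - s * e) : s = 1 ∧ X = e * A := by
  obtain ⟨Y, hY⟩ := hX
  obtain ⟨k, hk⟩ := hc
  have hY' : (X : ℤ) * Y = (e : ℤ) * c * (1 + n * p) := by
    have := congrArg (fun z : ℕ => (z : ℤ)) hY
    rw [hA] at this
    push_cast at this
    linarith
  have hp0 : (p : ℤ) ≠ 0 := by exact_mod_cast hp.out.ne_zero
  have hY0 : 0 < Y := by
    rcases Nat.eq_zero_or_pos Y with h | h
    · subst h
      rw [mul_zero] at hY
      have : 0 < e * c * A := Nat.mul_pos (Nat.mul_pos (by omega) (by omega)) (by omega)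
      omega
    · exact h
  have hYp : (Y : ℤ) * p ≤ (e : ℤ) * c * (1 + n * p) := by
    rw [← hY', mul_comm (X : ℤ)]
    exact mul_le_mul_of_nonneg_left (by exact_mod_cast hXp) (Int.natCast_nonneg _)
  have hKnZ : (e : ℤ) * c * n < p := by exact_mod_cast hKn
  have h2Z : 2 * ((e : ℤ) * c) < p := by exact_mod_cast h2
  have he0 : (2 : ℤ) ≤ e := by exact_mod_cast he
  have hc0' : (1 : ℤ) ≤ c := by exact_mod_cast hc0
  have hec : 2 * (c : ℤ) ≤ e * c := mul_le_mul_of_nonneg_right he0 (by linarith)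
  have hee : (e : ℤ) ≤ e * c := le_mul_of_one_le_right (by linarith) hc0'
  have hYle : (Y : ℤ) ≤ (e : ℤ) * c * n := by
    by_contra h
    have := mul_le_mul_of_nonneg_right (show (e : ℤ) * c * n + 1 ≤ Y by omega) (Int.natCast_nonneg p)
    linarith
  have hmod : (p : ℤ) ∣ (e : ℤ) * (s * Y - c) := ⟨(e : ℤ) * c * n - k * Y, by
    have hX' : (X : ℤ) = p * k + s * e := by linarith
    rw [hX'] at hY'
    linear_combination hY'⟩
  have hnp : ¬ (p : ℤ) ∣ (e : ℤ) := fun h => by
    have := Int.le_of_dvd (by linarith) h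
    linarith
  obtain ⟨l, hl⟩ := ((Nat.prime_iff_prime_int.1 hp.out).dvd_or_dvd hmod).resolve_left hnp
  have hY1 : (1 : ℤ) ≤ Y := by exact_mod_cast hY0
  rcases hs with rfl | rfl
  · refine ⟨rfl, ?_⟩
    have hl0 : l = 0 := by
      have h3 : -1 < l := by by_contra h'; nlinarith
      have h4 : l < 1 := by by_contra h'; nlinarith
      omega
    rw [hl0, mul_zero, one_mul, sub_eq_zero] at hl
    have hYK : Y = c := by exact_mod_cast hl
    rw [hYK, show e * c * A = e * A * c by ring] at hY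
    exact (Nat.eq_of_mul_eq_mul_right hc0 hY).symm
  · exfalso
    have hl0 : l = -1 := by
      have h3 : -2 < l := by by_contra h'; nlinarith
      have h4 : l < 0 := by by_contra h'; nlinarith
      omega
    have hYK : (Y : ℤ) = p - c := by rw [hl0] at hl; linarith
    have hX' : (X : ℤ) = p * k - e := by linarith
    rw [hX', hYK] at hY'
    have hu : k * ((p : ℤ) - c) = (e : ℤ) * c * n + e := mul_left_cancel₀ hp0 (by linear_combination hY')
    have hk2 : 2 ≤ k := by
      by_contra h'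
      have h5 : k * p ≤ 1 * p := mul_le_mul_of_nonneg_right (by omega) (Int.natCast_nonneg _)
      have : (p : ℤ) ≤ X := by exact_mod_cast hXp
      linarith
    have h6 : 2 * ((p : ℤ) - c) ≤ k * ((p : ℤ) - c) := mul_le_mul_of_nonneg_right hk2 (by linarith)
    linarith

/-- The centralizer of a Sylow subgroup of prime order with few conjugates. -/
theorem centralizer_eq_of_small (hG : ¬ IsMulCommutative G) (P : Sylow p G) (hP : Nat.card P = p)
    {e c n : ℕ} (hc : Nat.card ↥(Subgroup.centralizer ((P : Subgroup G) : Set G)) = p * c)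
    (he : (Subgroup.centralizer ((P : Subgroup G) : Set G)).relIndex
      (Subgroup.normalizer ((P : Subgroup G) : Set G)) = e)
    (hn : Nat.card (Sylow p G) = 1 + n * p) (hKn : e * c * n < p) (hn2 : 2 ≤ n) :
    Subgroup.centralizer ((P : Subgroup G) : Set G) = (P : Subgroup G) := by
  classical
  have hc0 : 1 ≤ c := by
    rcases Nat.eq_zero_or_pos c with h | h
    · exfalso; subst h; rw [mul_zero] at hc; exact Nat.card_pos.ne' hc
    · exact h
  have he2 : 2 ≤ e := by
    have h1 := (relIndex_centralizer_prime hG P hP)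
    rw [he] at h1
    have := Nat.pos_of_dvd_of_pos h1.1 (by have := hp.out.two_le; omega)
    have := h1.2
    omega
  have h2K : 2 * (e * c) < p := lt_of_le_of_lt (by rw [mul_comm]; exact Nat.mul_le_mul_left _ hn2) hKn
  obtain ⟨x, hxo⟩ : ∃ x : ↥(P : Subgroup G), orderOf x = p :=
    exists_prime_orderOf_dvd_card' p (dvd_of_eq hP.symm)
  have hx1 : (x : G) ≠ 1 := fun h => by
    rw [show x = 1 from Subtype.ext h, orderOf_one] at hxo
    exact hp.out.ne_one hxo.symm
  obtain ⟨V, hV, hVmem⟩ := OrderP.exists_regular_subgroup P hP x.2 hx1 hc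
  suffices hc1 : c = 1 by
    refine (Subgroup.eq_of_le_of_card_ge ?_ (by rw [hc, hc1, mul_one]; exact hP.ge)).symm
    have : IsMulCommutative ↥(P : Subgroup G) := isMulCommutative_of_prime_card
      (show (Nat.card ↥(P : Subgroup G)).Prime by
        rw [show Nat.card ↥(P : Subgroup G) = p from hP]; exact hp.out)
    exact (P : Subgroup G).le_centralizer
  obtain ⟨M, hM⟩ := BlkChar.exists_isPModular p hp.out
  obtain ⟨X, Y, sgn, ε, hdisj, hB, hXc, hYc, hTX, hTs, hε, hXd, hYd, -, hrel⟩ :=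
    OrderP.exists_block_data hM P hP e he
  choose dg hdg0 hdg hdgdvd using fun χ : Cfsg.IrrCharacter G => Char.irr_degree_dvd_card χ.2
  have hcd : ∀ χ : Cfsg.IrrCharacter G, Cfsg.charDegree (χ : G → ℂ) = dg χ :=
    fun χ => Char.charDegree_of_eq (hdg χ)
  by_cases hsmall : ∃ χ, χ ≠ Char.trivialIrr G ∧ χ ∈ Cfsg.principalBlock M G ∧ dg χ < p
  · obtain ⟨χ, hne, hχB, hlt⟩ := hsmall
    have hbot : V = ⊥ := (Subgroup.eq_bot_iff_forall V).2 fun v hv =>
      eq_one_of_small_degree hG P hP hM hχB (hdg χ) hlt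
        (Exceptional.one_lt_degree hp.out hG hne (hdg χ)) ((hVmem v).1 hv).1 ((hVmem v).1 hv).2
    rw [← hV, hbot, Subgroup.card_bot]
  exfalso
  push Not at hsmall
  have hcard : Nat.card G = p * (e * c * (1 + n * p)) := by
    have h1 := card_sylow_mul_card_normalizer P
    have h2 := Subgroup.relIndex_mul_relIndex ⊥ (Subgroup.centralizer ((P : Subgroup G) : Set G))
      (Subgroup.normalizer ((P : Subgroup G) : Set G)) bot_le (Subgroup.centralizer_le_normalizer _)
    rw [Subgroup.relIndex_bot_left, Subgroup.relIndex_bot_left, he, hc] at h2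
    rw [← h1, hn, ← h2]; ring
  have hdvd : ∀ (χ : Cfsg.IrrCharacter G) (s : ℤ), (p : ℤ) ∣ (dg χ : ℤ) - s → ¬ (p : ℤ) ∣ s →
      dg χ ∣ e * c * (1 + n * p) := by
    intro χ s h hs
    refine Nat.Coprime.dvd_of_dvd_mul_left ?_ (hcard ▸ hdgdvd χ)
    refine ((hp.out.coprime_iff_not_dvd).2 fun hd => hs ?_).symm
    have : (p : ℤ) ∣ (dg χ : ℤ) := by exact_mod_cast hd
    simpa using dvd_sub this h
  have hXA : ∀ χ ∈ X.erase (Char.trivialIrr G), sgn χ = 1 ∧ dg χ = 1 + n * p := by
    intro χ hχ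
    obtain ⟨hne, hχX⟩ := Finset.mem_erase.1 hχ
    obtain ⟨hs, hd, -⟩ := hXd χ hχX
    rw [hcd] at hd
    have hns : ¬ (p : ℤ) ∣ sgn χ := by
      intro h
      have hp' := Int.natAbs_dvd_natAbs.2 h
      rcases hs with h' | h' <;> rw [h'] at hp' <;>
        exact hp.out.one_lt.ne' (Nat.dvd_one.1 (by simpa using hp'))
    exact degree_cases_X (p := p) rfl (by linarith) h2K (Nat.mul_pos (by omega) hc0) (by omega) hs (hdvd χ _ hd hns)
      (hsmall χ hne ((hB χ).2 (.inl hχX))) hd
  obtain ⟨θ, hθ⟩ : Y.Nonempty := by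
    rw [← Finset.card_pos, hYc]
    have h1 := (relIndex_centralizer_prime hG P hP).1
    rw [he] at h1
    exact Nat.div_pos (Nat.le_of_dvd (by have := hp.out.two_le; omega) h1) (by omega)
  have hd := hYd θ hθ
  rw [hcd] at hd
  have hne : θ ≠ Char.trivialIrr G := fun h => Finset.disjoint_left.1 hdisj hTX (h ▸ hθ)
  have hns : ¬ (p : ℤ) ∣ ε * e := by
    intro h
    have hp' := Int.natAbs_dvd_natAbs.2 h
    have : (ε * e).natAbs = e := by rcases hε with rfl | rfl <;> simp
    rw [this, Int.natAbs_natCast] at hp'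
    have h2 := Nat.le_of_dvd (by omega) hp'
    have := Nat.le_mul_of_pos_right e hc0
    omega
  obtain ⟨hε1, hdθ⟩ := degree_cases_Y (p := p) rfl hKn h2K he2 hc0 (by omega) hε (hdvd θ _ hd hns)
    (hsmall θ hne ((hB θ).2 (.inr hθ))) hd
  have h := hrel θ hθ 1 (by rw [orderOf_one]; exact hp.out.not_dvd_one)
  rw [hε1, hdg, hdθ, ← Finset.add_sum_erase _ _ hTX, hTs,
    show ((Char.trivialIrr G : Cfsg.IrrCharacter G) : G → ℂ) 1 = 1 from rfl,
    Finset.sum_congr rfl (fun χ hχ => by rw [(hXA χ hχ).1, hdg χ, (hXA χ hχ).2]; simp :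
      ∀ χ ∈ X.erase (Char.trivialIrr G), (sgn χ : ℂ) * (χ : G → ℂ) 1 = ((1 + n * p : ℕ) : ℂ)),
    Finset.sum_const, Finset.card_erase_of_mem hTX, hXc, nsmul_eq_mul] at h
  simp only [Int.cast_one, one_mul] at h
  have h' : e * (1 + n * p) = 1 + (e - 1) * (1 + n * p) := by exact_mod_cast h
  have h3 : e * (1 + n * p) = (e - 1) * (1 + n * p) + (1 + n * p) := by
    rw [← Nat.succ_mul]; congr 1; omega
  have := Nat.mul_pos (show 0 < n by omega) hp.out.pos
  omega

end Cfsg.Agent.SmallGroups.SelfCentPrime
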