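import Cfsg.Agent.SmallGroups.Involution
import Cfsg.Agent.BlocksChar.ClassProd

/-!
# The class multiplication coefficient of two conjugates of an involution
-/

set_option linter.style.haveILetI false
set_option linter.unusedSectionVars false

noncomputable section

namespace Cfsg.Agent.SmallGroups.SelfCentPrime

open scoped Classical ComplexConjugate
open Cfsg Finset

universe u

variable {G : Type u} [Group G] [Fintype G]

/-- The conjugates `w` of `g` with `w z` conjugate to `g`. -/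
def conjPairs (g z : G) : Finset G :=
  Finset.univ.filter fun w => IsConj g w ∧ IsConj g (w * z)

theorem card_fiber_eq {g w : G} (h : IsConj g w) :
    (Finset.univ.filter fun k : G => k * g * k⁻¹ = w).card =
      Nat.card ↥(Subgroup.centralizer ({g} : Set G)) := by
  obtain ⟨k₀, rfl⟩ := isConj_iff.1 h
  exact Exceptional.card_conj_fiber g k₀

theorem sum_sq_mul_conj {g : G} (hg : g * g = 1) (z : G) :
    (Nat.card G : ℂ) * ∑ χ : Cfsg.IrrCharacter G,
        (χ : G → ℂ) g ^ 2 * conj ((χ : G → ℂ) z) / (χ : G → ℂ) 1 =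
      (Nat.card ↥(Subgroup.centralizer ({g} : Set G)) : ℂ) ^ 2 * (conjPairs g z).card := by
  have hcol : ∀ g' : G, ∑ χ : Cfsg.IrrCharacter G, (χ : G → ℂ) g' * conj ((χ : G → ℂ) z) =
      ((Finset.univ.filter fun a : G => a * z * a⁻¹ = g').card : ℂ) := by
    intro g'
    rw [Char.sum_irr_mul_conj]
    split_ifs with h
    · rw [card_fiber_eq h.symm]
      obtain ⟨k, rfl⟩ := isConj_iff.1 h.symm
      rw [show Nat.card ↥(Subgroup.centralizer ({k * z * k⁻¹} : Set G)) =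
        Nat.card ↥(Subgroup.centralizer ({z} : Set G)) by
          rw [← Exceptional.card_centralizer_conj z k⁻¹, inv_inv]]
    · rw [Finset.filter_false_of_mem fun a _ h' => h (isConj_iff.2 ⟨a, h'⟩).symm, Finset.card_empty,
        Nat.cast_zero]
  have h1 : (Nat.card G : ℂ) * ∑ χ : Cfsg.IrrCharacter G,
      (χ : G → ℂ) g ^ 2 * conj ((χ : G → ℂ) z) / (χ : G → ℂ) 1 =
      ∑ h : G, ∑ χ : Cfsg.IrrCharacter G, (χ : G → ℂ) (g * (h * g * h⁻¹)) * conj ((χ : G → ℂ) z) := by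
    rw [Finset.sum_comm, Finset.mul_sum]
    refine Finset.sum_congr rfl fun χ _ => ?_
    rw [← Finset.sum_mul, BlocksChar.sum_conj_mul χ.2]
    ring
  rw [h1, Finset.sum_congr rfl fun h _ => hcol (g * (h * g * h⁻¹))]
  -- count the pairs
  let A := (Finset.univ : Finset (G × G)).filter fun q => q.2 * z * q.2⁻¹ = g * (q.1 * g * q.1⁻¹)
  have hA : ∑ h : G, ((Finset.univ.filter fun a : G => a * z * a⁻¹ = g * (h * g * h⁻¹)).card : ℂ) =
      (A.card : ℂ) := by
    rw [← Nat.cast_sum]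
    congr 1
    simp only [A, Finset.card_filter, Fintype.sum_prod_type]
  rw [hA]
  let F : G × G → G := fun q => q.2⁻¹ * g * q.2
  have hmaps : ∀ q ∈ A, F q ∈ conjPairs g z := by
    rintro ⟨h, a⟩ hq
    have he : a * z * a⁻¹ = g * (h * g * h⁻¹) := (Finset.mem_filter.1 hq).2
    refine Finset.mem_filter.2 ⟨Finset.mem_univ _, isConj_iff.2 ⟨a⁻¹, by rw [inv_inv]⟩,
      isConj_iff.2 ⟨a⁻¹ * h, ?_⟩⟩
    symm
    calc a⁻¹ * g * a * z = a⁻¹ * g * (a * z * a⁻¹) * a := by group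
      _ = a⁻¹ * (g * g) * (h * g * h⁻¹) * a := by rw [he]; group
      _ = a⁻¹ * h * g * (a⁻¹ * h)⁻¹ := by rw [hg]; group
  have hfib : ∀ w ∈ conjPairs g z, (A.filter fun q => F q = w).card =
      Nat.card ↥(Subgroup.centralizer ({g} : Set G)) ^ 2 := by
    intro w hw
    obtain ⟨hw1, hw2⟩ := (Finset.mem_filter.1 hw).2
    rw [pow_two]
    nth_rw 1 [← card_fiber_eq hw1]
    rw [← card_fiber_eq hw2, ← Finset.card_product]
    refine Finset.card_bij' (fun q _ => (q.2⁻¹, q.2⁻¹ * q.1)) (fun q _ => (q.1⁻¹ * q.2, q.1⁻¹)) ?_ ?_ ?_ ?_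
    · rintro ⟨h, a⟩ hq
      obtain ⟨hqA, hF⟩ := Finset.mem_filter.1 hq
      have he : a * z * a⁻¹ = g * (h * g * h⁻¹) := (Finset.mem_filter.1 hqA).2
      refine Finset.mem_product.2 ⟨Finset.mem_filter.2 ⟨Finset.mem_univ _, by rw [inv_inv]; exact hF⟩,
        Finset.mem_filter.2 ⟨Finset.mem_univ _, ?_⟩⟩
      show a⁻¹ * h * g * (a⁻¹ * h)⁻¹ = w * z
      rw [← hF]
      show _ = a⁻¹ * g * a * z
      symm
      calc a⁻¹ * g * a * z = a⁻¹ * g * (a * z * a⁻¹) * a := by group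
        _ = a⁻¹ * (g * g) * (h * g * h⁻¹) * a := by rw [he]; group
        _ = a⁻¹ * h * g * (a⁻¹ * h)⁻¹ := by rw [hg]; group
    · rintro ⟨b, c⟩ hq
      obtain ⟨hb, hc⟩ := Finset.mem_product.1 hq
      have hb' : b * g * b⁻¹ = w := (Finset.mem_filter.1 hb).2
      have hc' : c * g * c⁻¹ = w * z := (Finset.mem_filter.1 hc).2
      refine Finset.mem_filter.2 ⟨Finset.mem_filter.2 ⟨Finset.mem_univ _, ?_⟩, by
        show b⁻¹⁻¹ * g * b⁻¹ = w
        rw [inv_inv]; exact hb'⟩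
      show b⁻¹ * z * b⁻¹⁻¹ = g * (b⁻¹ * c * g * (b⁻¹ * c)⁻¹)
      rw [inv_inv]
      symm
      calc g * (b⁻¹ * c * g * (b⁻¹ * c)⁻¹) = g * b⁻¹ * (c * g * c⁻¹) * b := by group
        _ = g * b⁻¹ * (b * g * b⁻¹ * z) * b := by rw [hc', hb']
        _ = (g * g) * (b⁻¹ * z * b) := by group
        _ = b⁻¹ * z * b := by rw [hg, one_mul]
    · rintro ⟨h, a⟩ _; simp
    · rintro ⟨b, c⟩ _; simp
  rw [Finset.card_eq_sum_card_fiberwise hmaps, Finset.sum_congr rfl hfib, Finset.sum_const, smul_eq_mul]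
  push_cast
  ring

end Cfsg.Agent.SmallGroups.SelfCentPrime
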