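import Cfsg.Agent.SmallGroups.SelfCentPrime.Minus
import Cfsg.Agent.SmallGroups.SelfCentPrime.ClassCoeff

/-!
# The negative exceptional sign: there is no non-exceptional character of degree `1 + n p` for `n ≥ 2`

The class multiplication coefficients at an involution and a generator of the complement give a
contradiction.
-/

set_option linter.style.haveILetI false
set_option linter.unusedSectionVars false

noncomputable section

namespace Cfsg.Agent.SmallGroups.SelfCentPrime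

open scoped Classical ComplexConjugate
open Cfsg Finset

universe u

variable {G : Type u} [Group G] [Fintype G]

/-- The members of `conjPairs g z` invert `z`. -/
theorem inverts_of_mem_conjPairs {g z w : G} (hg : g * g = 1) (hw : w ∈ conjPairs g z) :
    w * w = 1 ∧ w * z * w = z⁻¹ := by
  obtain ⟨h1, h2⟩ := (Finset.mem_filter.1 hw).2
  have hsq : ∀ a : G, IsConj g a → a * a = 1 := by
    intro a ha
    obtain ⟨k, rfl⟩ := isConj_iff.1 ha
    calc k * g * k⁻¹ * (k * g * k⁻¹) = k * (g * g) * k⁻¹ := by group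
      _ = 1 := by rw [hg]; group
  refine ⟨hsq w h1, ?_⟩
  have h3 : w * z * (w * z) = 1 := hsq _ h2
  calc w * z * w = w * z * (w * z) * z⁻¹ := by group
    _ = z⁻¹ := by rw [h3, one_mul]

/-- Two elements of order two inverting `z` differ by an element centralizing `z`. -/
theorem mul_mem_centralizer_of_inverts {z w w' : G} (h : w * w = 1 ∧ w * z * w = z⁻¹)
    (h' : w' * w' = 1 ∧ w' * z * w' = z⁻¹) : w' * w ∈ Subgroup.centralizer ({z} : Set G) := by
  rw [Subgroup.mem_centralizer_singleton_iff]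
  have e1 : w * z⁻¹ * w = z := by
    rw [← h.2]
    calc w * (w * z * w) * w = w * w * z * (w * w) := by group
      _ = z := by rw [h.1]; group
  have e2 : w' * z⁻¹ = z * w' := by
    calc w' * z⁻¹ = w' * (w' * z * w') := by rw [h'.2]
      _ = w' * w' * z * w' := by group
      _ = z * w' := by rw [h'.1, one_mul]
  calc w' * w * z = w' * (w * z * w) * w⁻¹ := by group
    _ = w' * z⁻¹ * w := by rw [h.2, inv_eq_of_mul_eq_one_right h.1]
    _ = z * (w' * w) := by rw [e2]; group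

/-- A character value at an involution, as an integer. -/
theorem exists_int_value {u : G} (hu : orderOf u = 2) : ∀ χ : Cfsg.IrrCharacter G,
    ∃ v : ℤ, (χ : G → ℂ) u = v ∧ ∀ f : ℕ, (χ : G → ℂ) 1 = f → (2 : ℤ) ∣ v - f := by
  intro χ
  obtain ⟨f, -, hf⟩ := Char.irr_one_pos χ.2
  obtain ⟨v, hv, i, -, hvi⟩ := Exceptional.exists_involution_value (Char.isCharacter_of_irr χ.2) hf hu
  refine ⟨v, hv, fun f' hf' => ?_⟩
  obtain rfl : f' = f := by exact_mod_cast hf'.symm.trans hf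
  exact ⟨i - f', by rw [hvi]; ring⟩

variable {p : ℕ} [hp : Fact p.Prime]
variable {P : Sylow p G} {x : G} {e n : ℕ} (S : Setup P x e)
include S

theorem Setup.not_dvd_card_centralizer {u : G} (hu : orderOf u = 2) (hp2 : p ≠ 2) :
    ¬ p ∣ Nat.card ↥(Subgroup.centralizer ({u} : Set G)) := by
  intro h
  obtain ⟨⟨z, hz⟩, hzo⟩ := exists_prime_orderOf_dvd_card' (G := ↥(Subgroup.centralizer ({u} : Set G))) p h
  rw [Subgroup.orderOf_mk] at hzo
  have hpg : IsPGroup p ↥(Subgroup.zpowers z) := IsPGroup.of_card (n := 1) (by rw [Nat.card_zpowers, hzo, pow_one])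
  obtain ⟨Q, hQ⟩ := hpg.exists_le_sylow
  obtain ⟨k, hk⟩ := MulAction.exists_smul_eq G Q P
  have hzP : k * z * k⁻¹ ∈ (P : Subgroup G) := by
    rw [← hk, Sylow.coe_subgroup_smul]
    exact Subgroup.smul_mem_pointwise_smul z (MulAut.conj k) _ (hQ (Subgroup.mem_zpowers z))
  have hz1 : k * z * k⁻¹ ≠ 1 := by
    rw [Ne, conj_eq_one_iff]
    intro hz1
    rw [hz1, orderOf_one] at hzo
    exact hp.out.ne_one hzo.symm
  have hmem : k * u * k⁻¹ ∈ (P : Subgroup G) := by
    rw [← S.centralizer_eq hzP hz1, Subgroup.mem_centralizer_singleton_iff]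
    have hzu : z * u = u * z := Subgroup.mem_centralizer_singleton_iff.1 hz
    calc k * u * k⁻¹ * (k * z * k⁻¹) = k * (u * z) * k⁻¹ := by group
      _ = k * z * k⁻¹ * (k * u * k⁻¹) := by rw [← hzu]; group
  have h1 := Subgroup.orderOf_dvd_natCard _ hmem
  rw [show orderOf (k * u * k⁻¹) = 2 from
    (orderOf_injective (MulAut.conj k).toMonoidHom (MulAut.conj k).injective u).trans hu,
    show Nat.card ↥(P : Subgroup G) = p from S.cardP] at h1
  exact hp2 ((Nat.prime_dvd_prime_iff_eq Nat.prime_two hp.out).1 h1).symm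

theorem Setup.zpowers_le_centralizer {y : G} (hy : y ∈ Subgroup.zpowers x) :
    Subgroup.zpowers x ≤ Subgroup.centralizer ({y} : Set G) := by
  intro z hz
  rw [Subgroup.mem_centralizer_singleton_iff]
  obtain ⟨i, rfl⟩ := Subgroup.mem_zpowers_iff.1 hy
  obtain ⟨j, rfl⟩ := Subgroup.mem_zpowers_iff.1 hz
  exact ((Commute.refl x).zpow_zpow j i).eq

theorem Setup.dvd_card_centralizer {y : G} (hy : y ∈ Subgroup.zpowers x) :
    e ∣ Nat.card ↥(Subgroup.centralizer ({y} : Set G)) := by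
  rw [← S.order, ← Nat.card_zpowers x]
  exact Subgroup.card_dvd_of_le (S.zpowers_le_centralizer hy)

variable (hn : Nat.card (Sylow p G) = 1 + n * p) [IsSimpleGroup G] (hG : ¬ IsMulCommutative G)
  (hnf : NF p n) {t d j : ℕ} (ht : t * e = p - 1) {XA XP Y R : Finset (Cfsg.IrrCharacter G)}
  {m : Cfsg.IrrCharacter G → ℕ}
  (H : Shape P n e t (-1) d XA XP Y R) (hj : t * j = n + 1) (hje : j * (1 + t * XA.card) + 1 = e)
  (hm : MinusValues P x n e j XA XP Y R m)
include hn hG hnf ht H hj hje hm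

/-- The trivial character, the rest, and the value one at the identity. -/
theorem Setup.split_value {F : Cfsg.IrrCharacter G → ℂ} {a b c f : ℂ}
    (hA : ∑ χ ∈ XA, F χ = a) (hP : ∑ χ ∈ XP, F χ = b) (hY : ∑ χ ∈ Y, F χ = c) (hR : ∑ χ ∈ R, F χ = f)
    {z : ℂ} (hT : F (Char.trivialIrr G) = z) : ∑ χ, F χ = z + a + b + c + f := by
  rw [H.split, hA, hP, hY, hR, hT]

/-- The orders of the centralizers of the elements of the complement. -/
theorem Setup.card_centralizer_eq {y : G} (hy : y ∈ Subgroup.zpowers x) (hy1 : y ≠ 1) :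
    (Nat.card ↥(Subgroup.centralizer ({y} : Set G)) : ℂ) =
      1 + ∑ χ ∈ XA, (χ : G → ℂ) y * conj ((χ : G → ℂ) y) +
        ∑ χ ∈ Y, (χ : G → ℂ) y * conj ((χ : G → ℂ) y) + n := by
  have h := Char.sum_irr_mul_conj y y
  rw [if_pos (IsConj.refl y)] at h
  rw [← h, S.split_value hn hG hnf ht H hj hje hm (F := fun χ => (χ : G → ℂ) y * conj ((χ : G → ℂ) y))
    (a := ∑ χ ∈ XA, (χ : G → ℂ) y * conj ((χ : G → ℂ) y)) (b := 0)
    (c := ∑ χ ∈ Y, (χ : G → ℂ) y * conj ((χ : G → ℂ) y)) (f := n) (z := 1) rfl ?_ rfl ?_ ?_]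
  · ring
  · refine Finset.sum_eq_zero fun χ hχ => ?_
    rw [hm.valP χ hχ y hy hy1, zero_mul]
  · rw [Finset.sum_congr rfl (fun χ hχ => by rw [hm.valR χ hχ y hy hy1, map_natCast, ← sq] :
      ∀ χ ∈ R, (χ : G → ℂ) y * conj ((χ : G → ℂ) y) = (m χ : ℂ) ^ 2)]
    exact_mod_cast hm.sumR
  · show (1 : ℂ) * conj 1 = 1
    simp

/-- A generator of the complement has the complement as centralizer. -/
theorem Setup.card_centralizer_gen (hm1 : 0 < XA.card) :
    Nat.card ↥(Subgroup.centralizer ({x} : Set G)) = e := by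
  classical
  set E := Subgroup.zpowers x
  set U := (Finset.univ : Finset ↥E).erase 1 with hU
  set C := fun y : ↥E => Nat.card ↥(Subgroup.centralizer ({(y : G)} : Set G)) with hC
  have hUc : U.card + 1 = e := by
    rw [hU, Finset.card_erase_add_one (Finset.mem_univ _), Finset.card_univ, ← Nat.card_eq_fintype_card,
      Nat.card_zpowers, S.order]
  have hsum : ∑ y ∈ U, C y + e = e * e + e * j * (t - 1) := by
    have h : ((∑ y ∈ U, C y : ℕ) : ℂ) = ((e : ℂ) - 1) * (1 + n) +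
        XA.card * (((n : ℂ) + 1) * e - ((n : ℂ) + 1) ^ 2) + t * ((j : ℂ) * e - (j : ℂ) ^ 2) := by
      push_cast
      rw [Finset.sum_congr rfl fun y hy => S.card_centralizer_eq hn hG hnf ht H hj hje hm y.2
        (fun h => Finset.ne_of_mem_erase hy (Subtype.ext h)), Finset.sum_add_distrib, Finset.sum_add_distrib,
        Finset.sum_add_distrib, Finset.sum_comm, Finset.sum_congr rfl (hm.sqA), Finset.sum_comm,
        Finset.sum_congr rfl (hm.sqY), Finset.sum_const, Finset.sum_const, Finset.sum_const,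
        Finset.sum_const, H.cardY, nsmul_eq_mul, nsmul_eq_mul, nsmul_eq_mul, nsmul_eq_mul]
      have : (U.card : ℂ) + 1 = e := by exact_mod_cast hUc
      linear_combination (1 + (n : ℂ)) * this
    have ht1 : 1 ≤ t := by rcases Nat.eq_zero_or_pos t with h | h; · subst h; simp at hj
                           exact h
    have hje' : (j : ℂ) * (1 + t * XA.card) + 1 = e := by exact_mod_cast hje
    have hj' : (t : ℂ) * j = n + 1 := by exact_mod_cast hj
    apply Nat.cast_injective (R := ℂ)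
    push_cast [Nat.cast_sub ht1]
    push_cast at h
    rw [h, show (n : ℂ) = t * j - 1 by linear_combination -hj', ← hje']
    ring
  have hex : ∃ y ∈ U, C y = e := by
    by_contra hcon
    push Not at hcon
    have h2 : ∀ y ∈ U, 2 * e ≤ C y := by
      intro y hy
      obtain ⟨l, hl⟩ := S.dvd_card_centralizer y.2
      rcases Nat.lt_or_ge l 2 with h | h
      · interval_cases l
        · have h0 : 0 < C y := Nat.card_pos
          simp only [hC] at h0
          omega
        · exact absurd (show C y = e from hl.trans (mul_one e)) (hcon y hy)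
      · show 2 * e ≤ Nat.card _
        rw [hl, mul_comm 2]; exact Nat.mul_le_mul_left _ h
    have h3 := Finset.sum_le_sum h2
    rw [Finset.sum_const, smul_eq_mul] at h3
    have h4 : U.card * (2 * e) + 2 * e = 2 * e * e := by rw [← Nat.succ_mul, Nat.succ_eq_add_one, hUc]; ring
    have hj0 : 0 < j := by rcases Nat.eq_zero_or_pos j with h | h; · subst h; simp at hj
                           exact h
    have h5 : j * (t - 1) + 1 < e := by
      rw [← hje]
      have : t - 1 < 1 + t * XA.card := by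
        have := Nat.le_mul_of_pos_right t hm1
        omega
      have := Nat.mul_lt_mul_of_pos_left this hj0
      omega
    have h6 : e * (j * (t - 1) + 1) < e * e := Nat.mul_lt_mul_of_pos_left h5 (by omega)
    nlinarith
  obtain ⟨y, hy, hCy⟩ := hex
  refine Nat.le_antisymm ?_ (Nat.le_of_dvd Nat.card_pos (S.dvd_card_centralizer (Subgroup.mem_zpowers x)))
  rw [← hCy]
  refine Nat.le_of_dvd Nat.card_pos (Subgroup.card_dvd_of_le fun z hz => ?_)
  rw [Subgroup.mem_centralizer_singleton_iff] at hz ⊢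
  obtain ⟨i, hi⟩ := Subgroup.mem_zpowers_iff.1 y.2
  rw [← hi]
  exact ((show Commute z x from hz).zpow_right i).eq

/-- Even `e`. -/
theorem Setup.false_even (hn2 : 2 ≤ n) (hm1 : 0 < XA.card) (he : Even e) : False := by
  classical
  have ht2 := S.two_le_t hn hG ht H
  have hp3 := S.three_le_p hn hG
  obtain ⟨θ₀, hθ₀⟩ : Y.Nonempty := by rw [← Finset.card_pos, H.cardY]; omega
  have hj0 : 0 < j := by
    rcases Nat.eq_zero_or_pos j with h | h
    · subst h; simp at hj
    · exact h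
  have he4 : 4 ≤ e := by
    rw [← hje]
    have := Nat.le_mul_of_pos_right t hm1
    have := Nat.le_mul_of_pos_left (1 + t * XA.card) hj0
    omega
  obtain ⟨q, hq⟩ := he
  have hxq : orderOf (x ^ q) = 2 := by
    rw [orderOf_pow_of_dvd (by omega) (by rw [S.order, hq]; exact Dvd.intro 2 (by ring)), S.order, hq,
      ← two_mul, Nat.mul_div_cancel _ (by omega)]
  set u := x ^ q with hudef
  have huE : u ∈ Subgroup.zpowers x := pow_mem (Subgroup.mem_zpowers x) q
  have hu1 : u ≠ 1 := fun h => by rw [h, orderOf_one] at hxq; omega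
  have huu : u * u = 1 := by rw [← pow_two, ← hxq]; exact pow_orderOf_eq_one u
  have hui : u⁻¹ = u := inv_eq_of_mul_eq_one_right huu
  -- `u` inverts `P`
  have hinv : ∀ v ∈ (P : Subgroup G), u * v * u = v⁻¹ := by
    intro v hv
    have hmem : u * v * u ∈ (P : Subgroup G) := by
      have := (Subgroup.mem_normalizer_iff.1 (S.mem_normalizer huE) v).1 hv
      rwa [hui] at this
    have hc : v * (u * v * u) = (u * v * u) * v := by
      have := congrArg Subtype.val ((isMulCommutative_of_prime_card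
        (show (Nat.card ↥(P : Subgroup G)).Prime by rw [S.cardP]; exact hp.out)).is_comm.comm
          (⟨v, hv⟩ : ↥(P : Subgroup G)) ⟨_, hmem⟩)
      exact this
    refine eq_inv_of_mul_eq_one_right (S.eq_one_of_commute huE hu1 (mul_mem hv hmem) ?_)
    calc u * (v * (u * v * u)) = u * v * u * v * u := by group
      _ = (v * (u * v * u)) * u := by rw [hc]
  -- the values at `u`
  choose v hv hvpar using exists_int_value hxq
  have hwY : ∀ θ ∈ Y, (θ : G → ℂ) u = (θ₀ : G → ℂ) u := fun θ hθ => by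
    linear_combination hm.sum_AY θ hθ u huE hu1 - hm.sum_AY θ₀ hθ₀ u huE hu1
  set V := ∑ χ ∈ XA, v χ ^ 2 with hV
  set w := v θ₀ with hw
  have hVA : ∑ χ ∈ XA, (χ : G → ℂ) u * conj ((χ : G → ℂ) u) = (V : ℂ) := by
    rw [hV, Int.cast_sum]
    exact Finset.sum_congr rfl fun χ _ => by rw [hv, map_intCast]; push_cast; ring
  have hVY : ∑ χ ∈ Y, (χ : G → ℂ) u * conj ((χ : G → ℂ) u) = (t : ℂ) * (w : ℂ) ^ 2 := by
    rw [Finset.sum_congr rfl (fun χ hχ => by rw [hwY χ hχ, hv, map_intCast, ← sq] :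
      ∀ χ ∈ Y, (χ : G → ℂ) u * conj ((χ : G → ℂ) u) = (w : ℂ) ^ 2), Finset.sum_const, H.cardY, nsmul_eq_mul]
  have hcol := S.card_centralizer_eq hn hG hnf ht H hj hje hm huE hu1
  rw [hVA, hVY] at hcol
  obtain ⟨k, hk⟩ := S.dvd_card_centralizer huE
  rw [hk] at hcol
  push_cast at hcol
  -- the coefficient at an element of order `p`
  obtain ⟨v₀, hv₀, hv₀1⟩ : ∃ v ∈ (P : Subgroup G), v ≠ 1 := by
    refine (Subgroup.ne_bot_iff_exists_ne_one.1 fun h => ?_).elim fun v h =>
      ⟨v.1, v.2, fun h1 => h (Subtype.ext h1)⟩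
    have h1 := S.cardP
    rw [h, Subgroup.card_bot] at h1
    exact hp.out.ne_one h1.symm
  have hpairs : (conjPairs u v₀).card = p := by
    have hset : conjPairs u v₀ = (Finset.univ.filter fun a : G => a ∈ (P : Subgroup G)).image (u * ·) := by
      ext w
      rw [Finset.mem_image]
      constructor
      · intro hw'
        refine ⟨u * w, Finset.mem_filter.2 ⟨Finset.mem_univ _, ?_⟩, by rw [← mul_assoc, huu, one_mul]⟩
        rw [← S.centralizer_eq hv₀ hv₀1]
        exact mul_mem_centralizer_of_inverts (inverts_of_mem_conjPairs huu hw') ⟨huu, hinv v₀ hv₀⟩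
      · rintro ⟨a, ha, rfl⟩
        have ha' : a ∈ (P : Subgroup G) := (Finset.mem_filter.1 ha).2
        have hconj : ∀ b ∈ (P : Subgroup G), IsConj u (u * b) := by
          intro b hb
          obtain ⟨c, -, hc⟩ := S.exists_conj huE hu1 (inv_mem hb)
          refine isConj_iff.2 ⟨c, hc.trans ?_⟩
          rw [← hinv b hb, mul_assoc, huu, mul_one]
        refine Finset.mem_filter.2 ⟨Finset.mem_univ _, hconj a ha', ?_⟩
        rw [mul_assoc]
        exact hconj _ (mul_mem ha' hv₀)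
    rw [hset, Finset.card_image_of_injective _ (mul_right_injective u), ← Fintype.card_subtype,
      ← Nat.card_eq_fintype_card]
    exact S.cardP
  have hA0 : ((1 + n * p : ℕ) : ℂ) ≠ 0 := Nat.cast_ne_zero.2 (by omega)
  have htd : (t : ℂ) * d = ((1 + n * p : ℕ) : ℂ) := by
    exact_mod_cast (H.cases.resolve_left fun h => absurd h.1 (by decide)).2.1
  have hd0 : (d : ℂ) ≠ 0 := fun h => hA0 (by rw [← htd, h, mul_zero])
  have hS := sum_sq_mul_conj huu v₀
  rw [hpairs, S.card_group hn, hk, S.split_value hn hG hnf ht H hj hje hm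
    (F := fun χ => (χ : G → ℂ) u ^ 2 * conj ((χ : G → ℂ) v₀) / (χ : G → ℂ) 1)
    (a := (V : ℂ) / ((1 + n * p : ℕ) : ℂ)) (b := 0) (c := (w : ℂ) ^ 2 / (d : ℂ)) (f := 0) (z := 1)
    ?_ ?_ ?_ ?_ ?_] at hS
  rotate_left
  · rw [hV, Int.cast_sum, Finset.sum_div]
    exact Finset.sum_congr rfl fun χ hχ => by rw [hv, H.valA χ hχ v₀ hv₀ hv₀1, H.degA χ hχ, map_one]; push_cast; ring
  · exact Finset.sum_eq_zero fun χ hχ => by rw [hm.valP χ hχ u huE hu1]; simp
  · rw [Finset.sum_congr rfl (fun χ hχ => by rw [hwY χ hχ, hv, H.degY χ hχ] :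
      ∀ χ ∈ Y, (χ : G → ℂ) u ^ 2 * conj ((χ : G → ℂ) v₀) / (χ : G → ℂ) 1 =
        (w : ℂ) ^ 2 * conj ((χ : G → ℂ) v₀) / (d : ℂ)), ← Finset.sum_div, ← Finset.mul_sum, ← map_sum,
      H.valY v₀ hv₀ hv₀1]
    simp
  · exact Finset.sum_eq_zero fun χ hχ => by rw [H.valR χ hχ v₀ hv₀ hv₀1]; simp
  · show (1 : ℂ) ^ 2 * conj 1 / 1 = 1
    simp
  have hp0 : (p : ℂ) ≠ 0 := Nat.cast_ne_zero.2 hp.out.ne_zero
  have he0 : (e : ℂ) ≠ 0 := Nat.cast_ne_zero.2 S.e_pos.ne'
  have hS' : (e : ℂ) * k ^ 2 = ((1 + n * p : ℕ) : ℂ) + V + t * w ^ 2 := by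
    have hw2 : (w : ℂ) ^ 2 / (d : ℂ) * ((1 + n * p : ℕ) : ℂ) = (t : ℂ) * w ^ 2 := by
      rw [← htd]; field_simp
    have hVd : (V : ℂ) / ((1 + n * p : ℕ) : ℂ) * ((1 + n * p : ℕ) : ℂ) = V := div_mul_cancel₀ _ hA0
    refine mul_left_cancel₀ (mul_ne_zero hp0 he0) ?_
    push_cast at hS hw2 hVd ⊢
    linear_combination -hS + (p : ℂ) * e * hw2 + (p : ℂ) * e * hVd
  have hpte : (p : ℂ) = t * e + 1 := by exact_mod_cast (show p = t * e + 1 by omega)
  have hkk : k * k = k + n * t := by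
    apply Nat.cast_injective (R := ℂ)
    push_cast at hS' ⊢
    refine mul_left_cancel₀ he0 ?_
    linear_combination hS' - hcol + (n : ℂ) * hpte
  have hk0 : 0 < k := by
    rcases Nat.eq_zero_or_pos k with h | h
    · subst h; rw [mul_zero] at hk; exact absurd hk Nat.card_pos.ne'
    · exact h
  have hpk : ¬ p ∣ k := fun h =>
    S.not_dvd_card_centralizer hxq (by omega) (hk ▸ h.mul_left e)
  have hkA : k ∣ n * t * e + (n + 1) := by
    have h1 : e * k ∣ Nat.card G := hk ▸ Subgroup.card_subgroup_dvd_card _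
    rw [S.card_group hn, show p * e * (1 + n * p) = e * (p * (1 + n * p)) by ring] at h1
    have h2 := ((hp.out.coprime_iff_not_dvd).2 hpk).symm.dvd_of_dvd_mul_left
      (Nat.dvd_of_mul_dvd_mul_left S.e_pos h1)
    rwa [show n * t * e + (n + 1) = 1 + n * p by rw [show p = t * e + 1 by omega]; ring]
  have hknt : k ∣ n * t := (Nat.dvd_add_right (dvd_refl k)).1 (hkk ▸ dvd_mul_right k k)
  have hkn : k ∣ n + 1 := (Nat.dvd_add_right (hknt.mul_right e)).1 hkA
  have hkt : k ∣ t := by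
    refine (Nat.Coprime.dvd_of_dvd_mul_left ?_ hknt)
    exact (Nat.Coprime.coprime_dvd_left hkn (Nat.coprime_self_add_left.2 (Nat.coprime_one_left n)))
  have hkle : k ≤ t := Nat.le_of_dvd (by omega) hkt
  have hnt : n + 1 = t := by
    have h1 : k * k ≤ k * t := Nat.mul_le_mul_left _ hkle
    have h2 : n + 1 ≥ t := hj ▸ Nat.le_mul_of_pos_right t hj0
    by_contra hne
    have h3 : t * t ≤ n * t := Nat.mul_le_mul_right _ (by omega)
    have h4 : k * t ≤ t * t := Nat.mul_le_mul_right _ hkle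
    omega
  have hj1 : j = 1 := Nat.eq_of_mul_eq_mul_left (show 0 < t by omega) (by rw [mul_one, hj, hnt])
  have hkeq : k = t := by
    by_contra hne
    have h1 : k * k + k ≤ k * t := by rw [← Nat.mul_succ]; exact Nat.mul_le_mul_left _ (by omega)
    have h2 : k * t ≤ t * t := Nat.mul_le_mul_right _ hkle
    have h3 : n * t + t = t * t := by rw [← Nat.succ_mul, Nat.succ_eq_add_one, hnt]
    have h4 : k * t + t ≤ t * t := by
      rw [← Nat.succ_mul]; exact Nat.mul_le_mul_right _ (by omega)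
    omega
  subst hkeq hj1
  -- every square is as large as possible
  have hVle : ∀ χ ∈ XA, v χ ^ 2 ≤ (k : ℤ) ^ 2 := by
    intro χ hχ
    have h := hm.normA χ hχ u huE hu1
    rw [hv, Complex.norm_intCast, show (n : ℝ) + 1 = ((k : ℤ) : ℝ) by exact_mod_cast hnt] at h
    have h' : |v χ| ≤ (k : ℤ) := by exact_mod_cast h
    exact sq_le_sq' (by linarith [neg_abs_le (v χ)]) ((le_abs_self _).trans h')
  have hwle : w ^ 2 ≤ 1 := by
    have h := hm.normY θ₀ hθ₀ u huE hu1
    rw [hv, Complex.norm_intCast] at h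
    have h' : |v θ₀| ≤ 1 := by exact_mod_cast h
    exact (sq_le_one_iff_abs_le_one _).2 h'
  have hVeq : V + (k : ℤ) * w ^ 2 = (k : ℤ) * ((k : ℤ) * XA.card + 1) := by
    apply Int.cast_injective (α := ℂ)
    have hje' : (1 : ℂ) * (1 + k * XA.card) + 1 = e := by exact_mod_cast hje
    have hn' : (n : ℂ) + 1 = k := by exact_mod_cast hnt
    push_cast at hcol ⊢
    linear_combination -hcol - (k : ℂ) * hje' - hn'
  have hVA2 : V ≤ (XA.card : ℤ) * (k : ℤ) ^ 2 := by
    have := Finset.sum_le_sum hVle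
    rwa [Finset.sum_const, nsmul_eq_mul] at this
  have hw1 : w ^ 2 = 1 := by nlinarith
  have hvA : ∀ χ ∈ XA, v χ ^ 2 = (k : ℤ) ^ 2 := (Finset.sum_eq_sum_iff_of_le hVle).1 (by
    rw [Finset.sum_const, nsmul_eq_mul, ← hV]
    rw [hw1] at hVeq
    linear_combination hVeq)
  -- the coefficient at the generator
  have hx1 : x ≠ 1 := fun h => by have h1 := S.order; rw [h, orderOf_one] at h1; omega
  have hxE := Subgroup.mem_zpowers x
  have hN : (conjPairs u x).card ≤ e := by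
    rcases (conjPairs u x).eq_empty_or_nonempty with h | ⟨w₀, hw₀⟩
    · rw [h, Finset.card_empty]; omega
    refine le_of_le_of_eq ?_ (S.card_centralizer_gen hn hG hnf ht H hj hje hm hm1)
    rw [Nat.card_eq_fintype_card, Fintype.card_subtype]
    refine Finset.card_le_card_of_injOn (fun a => a * w₀) (fun a ha => ?_) (fun a _ b _ h => mul_right_cancel h)
    exact Finset.mem_filter.2 ⟨Finset.mem_univ _, mul_mem_centralizer_of_inverts
      (inverts_of_mem_conjPairs huu hw₀) (inverts_of_mem_conjPairs huu ha)⟩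
  have hS2 := sum_sq_mul_conj huu x
  rw [S.card_group hn, hk, S.split_value hn hG hnf ht H hj hje hm
    (F := fun χ => (χ : G → ℂ) u ^ 2 * conj ((χ : G → ℂ) x) / (χ : G → ℂ) 1)
    (a := (k : ℂ) ^ 2 / ((1 + n * p : ℕ) : ℂ) * conj (∑ χ ∈ XA, (χ : G → ℂ) x)) (b := 0)
    (c := (k : ℂ) / (d : ℂ) * conj ((θ₀ : G → ℂ) x)) (f := (n : ℂ) / p) (z := 1)
    ?_ ?_ ?_ ?_ ?_] at hS2
  rotate_left
  · rw [map_sum, Finset.mul_sum]
    refine Finset.sum_congr rfl fun χ hχ => ?_
    rw [hv, H.degA χ hχ, show ((v χ : ℤ) : ℂ) ^ 2 = (k : ℂ) ^ 2 by exact_mod_cast hvA χ hχ]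
    ring
  · exact Finset.sum_eq_zero fun χ hχ => by rw [hm.valP χ hχ u huE hu1]; simp
  · rw [Finset.sum_congr rfl (fun χ hχ => by
      rw [hwY χ hχ, hv, H.degY χ hχ, show ((v θ₀ : ℤ) : ℂ) ^ 2 = 1 by exact_mod_cast hw1]
      rw [show (χ : G → ℂ) x = (θ₀ : G → ℂ) x by
        linear_combination hm.sum_AY χ hχ x hxE hx1 - hm.sum_AY θ₀ hθ₀ x hxE hx1] :
      ∀ χ ∈ Y, (χ : G → ℂ) u ^ 2 * conj ((χ : G → ℂ) x) / (χ : G → ℂ) 1 =
        (1 : ℂ) * conj ((θ₀ : G → ℂ) x) / (d : ℂ)), Finset.sum_const, H.cardY, nsmul_eq_mul]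
    ring
  · have hsR : ∑ χ ∈ R, (m χ : ℂ) ^ 2 = n := by exact_mod_cast hm.sumR
    rw [← hsR, Finset.sum_div]
    refine Finset.sum_congr rfl fun χ hχ => ?_
    rw [hm.valR χ hχ u huE hu1, hm.valR χ hχ x hxE hx1, hm.degR χ hχ, map_natCast]
    have hm0 : (m χ : ℂ) ≠ 0 := fun h0 => Char.irr_one_ne_zero χ.2 (by rw [hm.degR χ hχ, h0, mul_zero])
    field_simp
  · show (1 : ℂ) ^ 2 * conj 1 / 1 = 1
    simp
  have hk0' : (k : ℂ) ≠ 0 := Nat.cast_ne_zero.2 (by omega)
  have hsum : conj (∑ χ ∈ XA, (χ : G → ℂ) x) + conj ((θ₀ : G → ℂ) x) = -1 := by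
    rw [← map_add, hm.sum_AY θ₀ hθ₀ x hxE hx1]; simp
  have hN' : (conjPairs u x).card = n * e := by
    apply Nat.cast_injective (R := ℂ)
    have hd' : (d : ℂ) = ((1 + n * p : ℕ) : ℂ) / k := by
      rw [eq_div_iff hk0', mul_comm]; exact htd
    rw [hd'] at hS2
    have hn' : (n : ℂ) + 1 = k := by exact_mod_cast hnt
    push_cast at hS2 hA0 ⊢
    have hA0' : (1 : ℂ) + p * n ≠ 0 := by rw [mul_comm (p : ℂ)]; exact hA0
    field_simp [hA0'] at hS2
    refine mul_left_cancel₀ (pow_ne_zero 2 (mul_ne_zero he0 hk0')) ?_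
    linear_combination -(e : ℂ) * hS2 + (e : ℂ) * p * k ^ 2 * hsum +
      (e : ℂ) * (1 + (p : ℂ) ^ 2 + p * (n + k - 1) - (k : ℂ) ^ 2 * e ^ 2) * hn' +
      (e : ℂ) * ((k : ℂ) - 1) * (p - 1 + k * e) * hpte
  rw [hN'] at hN
  have := Nat.le_mul_of_pos_left e (show 0 < n by omega)
  have h9 : 2 * e ≤ n * e := Nat.mul_le_mul_right _ hn2
  omega

/-- Odd `e`. -/
theorem Setup.false_odd (hn2 : 2 ≤ n) (hm1 : 0 < XA.card) (he : Odd e) : False := by
  classical
  have ht2 := S.two_le_t hn hG ht H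
  have hp3 := S.three_le_p hn hG
  have hpodd : Odd p := hp.out.odd_of_ne_two (by omega)
  have ht' : Even t := by
    have h : Even (t * e) := by
      obtain ⟨q, hq⟩ := hpodd
      exact ⟨q, by omega⟩
    exact (Nat.even_mul.1 h).resolve_right (Nat.not_even_iff_odd.2 he)
  have hjeven : Even j := by
    obtain ⟨q, hq⟩ := he
    have h : Even (j * (1 + t * XA.card)) := ⟨q, by omega⟩
    exact (Nat.even_mul.1 h).resolve_right (Nat.not_even_iff_odd.2 ((ht'.mul_right _).one_add))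
  have hnodd : Odd n := by
    have h : Even (n + 1) := hj ▸ ht'.mul_right j
    rw [Nat.even_add_one] at h
    exact Nat.not_even_iff_odd.1 h
  have htd' : t * d = 1 + n * p := (H.cases.resolve_left fun h => absurd h.1 (by decide)).2.1
  have hdodd : Odd d := by
    have hdeq : d = j + n * e := by
      refine Nat.eq_of_mul_eq_mul_left (show 0 < t by omega) ?_
      rw [htd', show p = t * e + 1 by omega, mul_add t, hj]; ring
    rw [hdeq]
    exact hjeven.add_odd (hnodd.mul he)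
  have hG2 : 2 ∣ Nat.card G := by
    rw [S.card_group hn, ← htd']
    exact ((even_iff_two_dvd.1 ht').mul_right d).mul_left _
  obtain ⟨u, hu⟩ := exists_prime_orderOf_dvd_card' (G := G) 2 hG2
  have hureg : ¬ p ∣ orderOf u := by
    rw [hu]
    intro h
    have := (Nat.prime_dvd_prime_iff_eq hp.out Nat.prime_two).1 h
    omega
  have huu : u * u = 1 := by rw [← pow_two, ← hu]; exact pow_orderOf_eq_one u
  have hu1 : u ≠ 1 := fun h => by rw [h, orderOf_one] at hu; omega
  obtain ⟨θ₀, hθ₀⟩ : Y.Nonempty := by rw [← Finset.card_pos, H.cardY]; omega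
  choose v hv hvpar using exists_int_value hu
  have hsum_u : ∀ θ ∈ Y, (θ : G → ℂ) u = (θ₀ : G → ℂ) u := by
    intro θ hθ
    have h1 := H.rel θ hθ u hureg
    have h2 := H.rel θ₀ hθ₀ u hureg
    push_cast at h1 h2
    linear_combination h2 - h1
  set V := ∑ χ ∈ XA, v χ ^ 2 with hV
  set Z := ∑ χ ∈ XP, v χ ^ 2 with hZ
  set Y2 := ∑ χ ∈ R, v χ ^ 2 with hY2
  set w := v θ₀ with hw
  have hw0 : w ≠ 0 := by
    intro h0
    have h := hvpar θ₀ d (H.degY θ₀ hθ₀)
    rw [← hw, h0] at h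
    obtain ⟨q, hq⟩ := hdodd
    omega
  set ρ := Nat.card ↥(Subgroup.centralizer ({u} : Set G)) with hρ
  have hsqsum : ∀ s : Finset (Cfsg.IrrCharacter G),
      ∑ χ ∈ s, (χ : G → ℂ) u * conj ((χ : G → ℂ) u) = ((∑ χ ∈ s, v χ ^ 2 : ℤ) : ℂ) := fun s => by
    rw [Int.cast_sum]
    exact Finset.sum_congr rfl fun χ _ => by rw [hv, map_intCast]; push_cast; ring
  have hcol : (ρ : ℂ) = 1 + (V : ℂ) + Z + t * (w : ℂ) ^ 2 + Y2 := by
    have h := Char.sum_irr_mul_conj u u
    rw [if_pos (IsConj.refl u), H.split, hsqsum XA, hsqsum XP, hsqsum R,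
      Finset.sum_congr rfl (fun χ hχ => by rw [hsum_u χ hχ, hv, map_intCast, ← sq] :
        ∀ χ ∈ Y, (χ : G → ℂ) u * conj ((χ : G → ℂ) u) = (w : ℂ) ^ 2), Finset.sum_const, H.cardY,
      nsmul_eq_mul, show ((Char.trivialIrr G : Cfsg.IrrCharacter G) : G → ℂ) u = 1 from rfl, map_one,
      mul_one] at h
    exact h.symm
  have hp0 : (p : ℂ) ≠ 0 := Nat.cast_ne_zero.2 hp.out.ne_zero
  have he0 : (e : ℂ) ≠ 0 := Nat.cast_ne_zero.2 S.e_pos.ne'
  obtain ⟨A, hA⟩ : ∃ A, 1 + n * p = A := ⟨_, rfl⟩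
  have hA0 : (A : ℂ) ≠ 0 := Nat.cast_ne_zero.2 (by omega)
  have htd : (t : ℂ) * d = (A : ℂ) := by exact_mod_cast htd'.trans hA
  have hd0 : (d : ℂ) ≠ 0 := fun h => hA0 (by rw [← htd, h, mul_zero])
  have hpp : (p : ℂ) - 1 ≠ 0 := by
    rw [sub_ne_zero]; exact_mod_cast hp.out.ne_one
  -- no conjugate of `u` inverts an element of order `p`
  obtain ⟨v₀, hv₀, hv₀1⟩ : ∃ v ∈ (P : Subgroup G), v ≠ 1 := by
    refine (Subgroup.ne_bot_iff_exists_ne_one.1 fun h => ?_).elim fun v h =>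
      ⟨v.1, v.2, fun h1 => h (Subtype.ext h1)⟩
    have h1 := S.cardP
    rw [h, Subgroup.card_bot] at h1
    exact hp.out.ne_one h1.symm
  have hempty : conjPairs u v₀ = ∅ := by
    rw [Finset.eq_empty_iff_forall_notMem]
    intro a ha
    obtain ⟨haa, hinv⟩ := inverts_of_mem_conjPairs huu ha
    have hzp : Subgroup.zpowers v₀ = (P : Subgroup G) := Brauer.OrderP.zpowers_eq P S.cardP hv₀ hv₀1
    have haN : a ∈ Subgroup.normalizer ((P : Subgroup G) : Set G) := by
      refine Subgroup.mem_normalizer_iff.2 fun z => ?_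
      have hkey : ∀ z ∈ (P : Subgroup G), a * z * a ∈ (P : Subgroup G) := by
        intro z hz
        rw [← hzp] at hz
        obtain ⟨i, rfl⟩ := Subgroup.mem_zpowers_iff.1 hz
        have := map_zpow (MulAut.conj a) v₀ i
        simp only [MulAut.conj_apply, inv_eq_of_mul_eq_one_right haa] at this
        rw [this, hinv]
        exact zpow_mem (inv_mem hv₀) i
      rw [inv_eq_of_mul_eq_one_right haa]
      refine ⟨hkey z, fun h => ?_⟩
      have := hkey _ h
      rwa [show a * (a * z * a) * a = a * a * z * (a * a) by group, haa, one_mul, mul_one] at this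
    have h1 := Subgroup.orderOf_dvd_natCard _ haN
    obtain ⟨k, hk⟩ := isConj_iff.1 (Finset.mem_filter.1 ha).2.1
    rw [show orderOf a = 2 by
      rw [← hk, show k * u * k⁻¹ = MulAut.conj k u from rfl, MulEquiv.orderOf_eq, hu],
      card_normalizer S.cardP S.cent S.rel] at h1
    exact Nat.not_even_iff_odd.2 (hpodd.mul he) (even_iff_two_dvd.2 h1)
  have hrelP : ((p : ℂ) - 1) * ((A : ℂ) + V + t * (w : ℂ) ^ 2) = (A : ℂ) * Z := by
    have hS := sum_sq_mul_conj huu v₀
    rw [hempty, Finset.card_empty, Nat.cast_zero, mul_zero,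
      S.split_value hn hG hnf ht H hj hje hm
        (F := fun χ => (χ : G → ℂ) u ^ 2 * conj ((χ : G → ℂ) v₀) / (χ : G → ℂ) 1)
        (a := (V : ℂ) / (A : ℂ)) (b := -(Z : ℂ) / ((p : ℂ) - 1)) (c := (w : ℂ) ^ 2 / (d : ℂ)) (f := 0)
        (z := 1) ?_ ?_ ?_ ?_ ?_] at hS
    rotate_left
    · rw [hV, Int.cast_sum, Finset.sum_div]
      exact Finset.sum_congr rfl fun χ hχ => by
        rw [hv, H.valA χ hχ v₀ hv₀ hv₀1, H.degA χ hχ, hA, map_one]; push_cast; ring
    · rw [hZ, Int.cast_sum, ← Finset.sum_neg_distrib, Finset.sum_div]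
      exact Finset.sum_congr rfl fun χ hχ => by
        rw [hv, H.valP χ hχ v₀ hv₀ hv₀1, H.degP χ hχ, Nat.cast_sub hp.out.one_le]; simp [map_neg]
    · rw [Finset.sum_congr rfl (fun χ hχ => by rw [hsum_u χ hχ, hv, H.degY χ hχ] :
        ∀ χ ∈ Y, (χ : G → ℂ) u ^ 2 * conj ((χ : G → ℂ) v₀) / (χ : G → ℂ) 1 =
          (w : ℂ) ^ 2 * conj ((χ : G → ℂ) v₀) / (d : ℂ)), ← Finset.sum_div, ← Finset.mul_sum, ← map_sum,
        H.valY v₀ hv₀ hv₀1]
      simp
    · exact Finset.sum_eq_zero fun χ hχ => by rw [H.valR χ hχ v₀ hv₀ hv₀1]; simp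
    · show (1 : ℂ) ^ 2 * conj 1 / 1 = 1
      simp
    have hG0 : (Nat.card G : ℂ) ≠ 0 := Char.card_ne_zero_complex
    have h := (mul_eq_zero.1 hS).resolve_left hG0
    have e1 : (V : ℂ) / A * A = V := div_mul_cancel₀ _ hA0
    have e2 : -(Z : ℂ) / ((p : ℂ) - 1) * ((p : ℂ) - 1) = -Z := div_mul_cancel₀ _ hpp
    have e3 : (w : ℂ) ^ 2 / d * A = (t : ℂ) * w ^ 2 := by rw [← htd]; field_simp
    linear_combination (A : ℂ) * ((p : ℂ) - 1) * h - ((p : ℂ) - 1) * e1 - (A : ℂ) * e2 -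
      ((p : ℂ) - 1) * e3
  have hrelP' : ((p : ℤ) - 1) * ((A : ℤ) + V + t * w ^ 2) = (A : ℤ) * Z := by
    apply Int.cast_injective (α := ℂ)
    push_cast
    exact hrelP
  have hρZ : (ρ : ℤ) = 1 + V + Z + t * w ^ 2 + Y2 := by
    apply Int.cast_injective (α := ℂ)
    push_cast
    exact hcol
  have hAmod : (p : ℤ) ∣ (A : ℤ) - 1 := ⟨n, by rw [← hA]; push_cast; ring⟩
  have hmod : (p : ℤ) ∣ 1 + V + Z + t * w ^ 2 := by
    obtain ⟨a, ha⟩ := hAmod
    refine ⟨(A : ℤ) + V + t * w ^ 2 - a - a * Z, ?_⟩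
    linear_combination -hrelP' - (1 + Z) * ha
  have hnot : ¬ p ∣ ρ := S.not_dvd_card_centralizer hu (by omega)
  -- the coefficient at the generator
  have hx1 : x ≠ 1 := fun h => by
    have h1 := S.order
    rw [h, orderOf_one] at h1
    have := S.two_le_e hn hG
    omega
  have hxE := Subgroup.mem_zpowers x
  have hCx : Subgroup.centralizer ({x} : Set G) = Subgroup.zpowers x :=
    (Subgroup.eq_of_le_of_card_ge (S.zpowers_le_centralizer hxE) (by
      rw [S.card_centralizer_gen hn hG hnf ht H hj hje hm hm1, Nat.card_zpowers, S.order])).symm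
  set Q := ∑ χ ∈ XA, (v χ : ℂ) ^ 2 * (χ : G → ℂ) x + (t : ℂ) * t * (w : ℂ) ^ 2 * (θ₀ : G → ℂ) x with hQ
  have hS := sum_sq_mul_conj huu x
  rw [S.card_group hn, hA, S.split_value hn hG hnf ht H hj hje hm
    (F := fun χ => (χ : G → ℂ) u ^ 2 * conj ((χ : G → ℂ) x) / (χ : G → ℂ) 1)
    (a := conj (∑ χ ∈ XA, (v χ : ℂ) ^ 2 * (χ : G → ℂ) x) / (A : ℂ)) (b := 0)
    (c := conj ((t : ℂ) * t * (w : ℂ) ^ 2 * (θ₀ : G → ℂ) x) / (A : ℂ)) (f := (Y2 : ℂ) / p) (z := 1)
    ?_ ?_ ?_ ?_ ?_] at hS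
  rotate_left
  · rw [map_sum, Finset.sum_div]
    exact Finset.sum_congr rfl fun χ hχ => by
      rw [hv, H.degA χ hχ, hA, map_mul, map_pow, map_intCast]
  · exact Finset.sum_eq_zero fun χ hχ => by rw [hm.valP χ hχ x hxE hx1]; simp
  · rw [Finset.sum_congr rfl (fun χ hχ => by
      rw [hsum_u χ hχ, hv, H.degY χ hχ, show (χ : G → ℂ) x = (θ₀ : G → ℂ) x by
        linear_combination hm.sum_AY χ hχ x hxE hx1 - hm.sum_AY θ₀ hθ₀ x hxE hx1] :
      ∀ χ ∈ Y, (χ : G → ℂ) u ^ 2 * conj ((χ : G → ℂ) x) / (χ : G → ℂ) 1 =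
        (w : ℂ) ^ 2 * conj ((θ₀ : G → ℂ) x) / (d : ℂ)), Finset.sum_const, H.cardY, nsmul_eq_mul]
    simp only [map_mul, map_pow, map_intCast, map_natCast]
    rw [← htd]
    have ht0 : (t : ℂ) ≠ 0 := Nat.cast_ne_zero.2 (by omega)
    field_simp
  · rw [hY2, Int.cast_sum, Finset.sum_div]
    refine Finset.sum_congr rfl fun χ hχ => ?_
    rw [hv, hm.valR χ hχ x hxE hx1, hm.degR χ hχ, map_natCast]
    have hm0 : (m χ : ℂ) ≠ 0 := fun h0 => Char.irr_one_ne_zero χ.2 (by rw [hm.degR χ hχ, h0, mul_zero])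
    push_cast
    field_simp
  · show (1 : ℂ) ^ 2 * conj 1 / 1 = 1
    simp
  set N := (conjPairs u x).card with hNdef
  have hS' : (e : ℂ) * ((A : ℂ) * ((p : ℂ) + Y2) + p * conj Q) = (ρ : ℂ) ^ 2 * N := by
    rw [hQ, map_add]
    generalize conj (∑ χ ∈ XA, (v χ : ℂ) ^ 2 * (χ : G → ℂ) x) = a at hS
    generalize conj ((t : ℂ) * t * (w : ℂ) ^ 2 * (θ₀ : G → ℂ) x) = b at hS
    push_cast at hS
    have e1 : a / (A : ℂ) * A = a := div_mul_cancel₀ _ hA0
    have e2 : b / (A : ℂ) * A = b := div_mul_cancel₀ _ hA0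
    have e3 : (Y2 : ℂ) / p * p = Y2 := div_mul_cancel₀ _ hp0
    linear_combination hS - (p : ℂ) * e * e1 - (p : ℂ) * e * e2 - (e : ℂ) * A * e3
  have hN : N = 0 ∨ N = e := by
    rcases (conjPairs u x).eq_empty_or_nonempty with h | ⟨a₀, ha₀⟩
    · exact .inl (by rw [hNdef, h, Finset.card_empty])
    right
    obtain ⟨haa, hinv⟩ := inverts_of_mem_conjPairs huu ha₀
    have hinvE : ∀ b ∈ Subgroup.zpowers x, a₀ * b * a₀ = b⁻¹ := by
      intro b hb
      obtain ⟨i, rfl⟩ := Subgroup.mem_zpowers_iff.1 hb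
      have := map_zpow (MulAut.conj a₀) x i
      simp only [MulAut.conj_apply, inv_eq_of_mul_eq_one_right haa] at this
      rw [this, hinv, inv_zpow]
    have hconj : ∀ b ∈ Subgroup.zpowers x, IsConj u (a₀ * b) := by
      intro b hb
      refine (Finset.mem_filter.1 ha₀).2.1.trans ?_
      obtain ⟨q, hq⟩ := he
      set c := b ^ (q + 1) with hc
      have hcE : c ∈ Subgroup.zpowers x := pow_mem hb _
      have hcc : c * c = b := by
        rw [hc, ← pow_add, show q + 1 + (q + 1) = e + 1 by omega, pow_succ]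
        have h1 : b ^ e = 1 := by
          rw [← S.order, ← Nat.card_zpowers x]
          exact orderOf_dvd_iff_pow_eq_one.1 (Subgroup.orderOf_dvd_natCard _ hb)
        rw [h1, one_mul]
      refine isConj_iff.2 ⟨c⁻¹, ?_⟩
      rw [inv_inv, ← hinvE c hcE, ← hcc]
      calc a₀ * c * a₀ * a₀ * c = a₀ * c * (a₀ * a₀) * c := by group
        _ = a₀ * (c * c) := by rw [haa]; group
    have hset : conjPairs u x = (Finset.univ.filter fun b : G => b ∈ Subgroup.zpowers x).image (a₀ * ·) := by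
      ext b
      rw [Finset.mem_image]
      constructor
      · intro hb
        refine ⟨a₀ * b, Finset.mem_filter.2 ⟨Finset.mem_univ _, ?_⟩, by rw [← mul_assoc, haa, one_mul]⟩
        rw [← hCx]
        exact mul_mem_centralizer_of_inverts (inverts_of_mem_conjPairs huu hb) ⟨haa, hinv⟩
      · rintro ⟨c, hc, rfl⟩
        have hc' : c ∈ Subgroup.zpowers x := (Finset.mem_filter.1 hc).2
        refine Finset.mem_filter.2 ⟨Finset.mem_univ _, hconj c hc', ?_⟩
        rw [mul_assoc]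
        exact hconj _ (mul_mem hc' hxE)
    rw [hNdef, hset, Finset.card_image_of_injective _ (mul_right_injective a₀), ← Fintype.card_subtype,
      ← Nat.card_eq_fintype_card, ← S.order, ← Nat.card_zpowers x]
  have hint : IsIntegral ℤ (conj Q) := by
    have hQi : IsIntegral ℤ Q :=
      (IsIntegral.sum _ fun χ _ => ((Char.isIntegral_of_int _).pow 2).mul
        (Char.isCharacter_isIntegral (Char.isCharacter_of_irr χ.2) x)).add
      ((((Char.isIntegral_of_nat t).mul (Char.isIntegral_of_nat t)).mul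
        ((Char.isIntegral_of_int w).pow 2)).mul
        (Char.isCharacter_isIntegral (Char.isCharacter_of_irr θ₀.2) x))
    exact hQi.map (Complex.conjAe.toAlgHom.restrictScalars ℤ)
  -- `p * conj Q` is an integer
  obtain ⟨K, hK⟩ : ∃ K : ℤ, (p : ℂ) * conj Q = (K : ℂ) := by
    rcases hN with h | h
    · refine ⟨-((A : ℤ) * ((p : ℤ) + Y2)), ?_⟩
      rw [h, Nat.cast_zero, mul_zero] at hS'
      push_cast
      linear_combination (mul_eq_zero.1 hS').resolve_left he0
    · refine ⟨(ρ : ℤ) ^ 2 - (A : ℤ) * ((p : ℤ) + Y2), ?_⟩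
      rw [h, mul_comm _ (e : ℂ)] at hS'
      push_cast
      linear_combination mul_left_cancel₀ he0 hS'
  obtain ⟨z, hz⟩ := Char.exists_int_of_isIntegral_rat (q := (K : ℚ) / p) (by
    push_cast
    rw [← hK, mul_div_cancel_left₀ _ hp0]
    exact hint)
  have hKz : K = (p : ℤ) * z := by
    rw [div_eq_iff (Nat.cast_ne_zero.2 hp.out.ne_zero)] at hz
    rw [mul_comm]
    exact_mod_cast hz
  have hQz : conj Q = (z : ℂ) := by
    rw [hKz] at hK
    push_cast at hK
    exact mul_left_cancel₀ hp0 hK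
  rw [hQz] at hS'
  rcases hN with h | h
  · -- nothing inverts the generator
    rw [h, Nat.cast_zero, mul_zero] at hS'
    have h0 : (A : ℤ) * ((p : ℤ) + Y2) + (p : ℤ) * z = 0 := by
      exact_mod_cast (mul_eq_zero.1 hS').resolve_left he0
    obtain ⟨a, ha⟩ := hmod
    obtain ⟨b, hb⟩ := hAmod
    refine hnot (Int.natCast_dvd_natCast.1 ⟨a - (1 + z + n * ((p : ℤ) + Y2)), ?_⟩)
    have hA' : (A : ℤ) = 1 + n * p := by rw [← hA]; push_cast; ring
    rw [hA'] at h0
    linear_combination hρZ + ha + h0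
  · rw [h, mul_comm _ (e : ℂ)] at hS'
    have h0 : (A : ℤ) * ((p : ℤ) + Y2) + (p : ℤ) * z = (ρ : ℤ) ^ 2 := by
      exact_mod_cast mul_left_cancel₀ he0 hS'
    have hA' : (A : ℤ) = 1 + n * p := by rw [← hA]; push_cast; ring
    have hρ1 : (p : ℤ) ∣ (ρ : ℤ) - 1 := by
      obtain ⟨a, ha⟩ := hmod
      have hdvd : (p : ℤ) ∣ (ρ : ℤ) * ((ρ : ℤ) - 1) := by
        refine ⟨1 + z + n * ((p : ℤ) + Y2) - a, ?_⟩
        rw [hA'] at h0
        linear_combination -h0 - hρZ - ha
      exact ((Nat.prime_iff_prime_int.1 hp.out).dvd_or_dvd hdvd).resolve_left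
        fun h' => hnot (Int.natCast_dvd_natCast.1 h')
    have hρdvd : ρ ∣ (p - 1) * (1 + n * p) := by
      have h1 : ρ ∣ p * (e * (1 + n * p)) := by
        rw [← mul_assoc, ← S.card_group hn]; exact Subgroup.card_subgroup_dvd_card _
      refine (((hp.out.coprime_iff_not_dvd).2 hnot).symm.dvd_of_dvd_mul_left h1).trans ?_
      exact Nat.mul_dvd_mul_right S.e_dvd _
    have hρ2 : 2 ≤ ρ := by
      rw [hρ, ← hu]
      exact Nat.le_of_dvd Nat.card_pos
        (Subgroup.orderOf_dvd_natCard _ (Subgroup.mem_centralizer_singleton_iff.2 rfl))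
    have hρA : ρ = A := by
      rcases divisor_cases_nf hp.out.two_le hnf (.inl rfl) hρdvd hρ1 with ⟨-, h1 | h1⟩ | ⟨h1, -⟩
      · omega
      · rw [h1, hA]
      · exact absurd h1 (by decide)
    rw [hρA] at hρZ h0
    have hQeq : z = ((n : ℤ) + 1) * (V + t * w ^ 2) := by
      refine mul_left_cancel₀ (show (p : ℤ) ≠ 0 by exact_mod_cast hp.out.ne_zero) ?_
      linear_combination h0 + (A : ℤ) * hρZ - hrelP' + (V + (t : ℤ) * w ^ 2) * hA'
    have hre : (conj Q).re = ∑ χ ∈ XA, (v χ : ℝ) ^ 2 * ((χ : G → ℂ) x).re +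
        (t : ℝ) * t * (w : ℝ) ^ 2 * ((θ₀ : G → ℂ) x).re := by
      have e1 : ∀ (r : ℝ) (c : ℂ), ((r : ℂ) * c).re = r * c.re := fun r c => by simp
      rw [Complex.conj_re, hQ, Complex.add_re, Complex.re_sum,
        show (t : ℂ) * t * (w : ℂ) ^ 2 = (((t : ℝ) * t * (w : ℝ) ^ 2 : ℝ) : ℂ) by push_cast; ring, e1]
      congr 1
      refine Finset.sum_congr rfl fun χ _ => ?_
      rw [show (v χ : ℂ) ^ 2 = (((v χ : ℝ) ^ 2 : ℝ) : ℂ) by push_cast; ring, e1]
    rw [hQz, Complex.intCast_re, hQeq] at hre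
    have hle : ∑ χ ∈ XA, (v χ : ℝ) ^ 2 * ((χ : G → ℂ) x).re ≤ (V : ℝ) * ((n : ℝ) + 1) := by
      rw [hV, Int.cast_sum, Finset.sum_mul]
      refine Finset.sum_le_sum fun χ hχ => ?_
      push_cast
      exact mul_le_mul_of_nonneg_left ((Complex.re_le_norm _).trans (hm.normA χ hχ x hxE hx1)) (sq_nonneg _)
    have hlt : (t : ℝ) * t * (w : ℝ) ^ 2 * ((θ₀ : G → ℂ) x).re < (t : ℝ) * t * (w : ℝ) ^ 2 * j := by
      refine mul_lt_mul_of_pos_left (hm.reY θ₀ hθ₀) ?_
      have : (0 : ℝ) < t := by exact_mod_cast (show 0 < t by omega)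
      have : (w : ℝ) ≠ 0 := by exact_mod_cast hw0
      positivity
    have hj' : (t : ℝ) * j = n + 1 := by exact_mod_cast hj
    push_cast at hre
    have he3 : (t : ℝ) * t * (w : ℝ) ^ 2 * j = (t : ℝ) * (w : ℝ) ^ 2 * ((n : ℝ) + 1) := by rw [← hj']; ring
    nlinarith

end Cfsg.Agent.SmallGroups.SelfCentPrime
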