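import Cfsg.Agent.SmallGroups.SelfCentPrime.Shape

/-!
# The positive exceptional sign, and the parity argument

With positive sign the character `∑ θ θ̄` over the exceptional characters forces `n = 1`.
-/

set_option linter.style.haveILetI false
set_option linter.unusedSectionVars false

noncomputable section

namespace Cfsg.Agent.SmallGroups.SelfCentPrime

open scoped Classical ComplexConjugate
open Cfsg Finset

universe u

variable {G : Type u} [Group G] [Fintype G] {p : ℕ} [hp : Fact p.Prime]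
variable {P : Sylow p G} {x : G} {e n : ℕ} (S : Setup P x e)
include S

/-- Sums over `P` of a function constant on the non-identity elements. -/
theorem Setup.sum_P {f : G → ℂ} {c : ℂ} (h : ∀ v ∈ (P : Subgroup G), v ≠ 1 → f v = c) :
    ∑ v : ↥(P : Subgroup G), f v = f 1 + ((p : ℂ) - 1) * c := by
  rw [← Finset.add_sum_erase _ _ (Finset.mem_univ (1 : ↥(P : Subgroup G))), OneMemClass.coe_one,
    Finset.sum_congr rfl (fun v hv => h (v : G) v.2 fun h1 => Finset.ne_of_mem_erase hv (Subtype.ext h1) :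
      ∀ v ∈ (Finset.univ : Finset ↥(P : Subgroup G)).erase 1, f (v : G) = c),
    Finset.sum_const, Finset.card_erase_of_mem (Finset.mem_univ _), Finset.card_univ,
    ← Nat.card_eq_fintype_card, show Nat.card ↥(P : Subgroup G) = p from S.cardP, nsmul_eq_mul,
    Nat.cast_sub hp.out.one_le, Nat.cast_one]

variable (hn : Nat.card (Sylow p G) = 1 + n * p) [IsSimpleGroup G] (hG : ¬ IsMulCommutative G)
include hn hG

/-- The number of Sylow subgroups is even when `e` is. -/
theorem Setup.false_of_odd (he : Even e) (hA : Odd (1 + n * p)) : False := by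
  obtain ⟨k, m, hm, hkm⟩ := Nat.exists_eq_two_pow_mul_odd S.e_pos.ne'
  have hodd : ¬ 2 ∣ p * m * (1 + n * p) := by
    rw [← even_iff_two_dvd, Nat.not_even_iff_odd]
    exact ((hp.out.odd_of_ne_two (by have := S.three_le_p hn hG; omega)).mul hm).mul hA
  have hc : Nat.card G = 2 ^ k * (p * m * (1 + n * p)) := by rw [S.card_group hn, hkm]; ring
  have hk : 1 ≤ k := by
    rcases Nat.eq_zero_or_pos k with h | h
    · subst h; rw [pow_zero, one_mul] at hkm; subst hkm; exact absurd he (Nat.not_even_iff_odd.2 hm)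
    · exact h
  have ho : orderOf (x ^ m) = 2 ^ k := by
    rw [orderOf_pow_of_dvd hm.pos.ne' (by rw [S.order, hkm]; exact dvd_mul_left _ _), S.order, hkm,
      Nat.mul_div_cancel _ hm.pos]
  have : Fact (Nat.Prime 2) := ⟨Nat.prime_two⟩
  obtain ⟨T, hT⟩ := (IsPGroup.of_card (n := k) (by rw [Nat.card_zpowers, ho]) :
    IsPGroup 2 ↥(Subgroup.zpowers (x ^ m))).exists_le_sylow
  have hTc := card_sylow_subgroup hc hodd T
  have hTe : Subgroup.zpowers (x ^ m) = (T : Subgroup G) :=
    Subgroup.eq_of_le_of_card_ge hT (by rw [hTc, Nat.card_zpowers, ho])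
  refine not_isCyclic_sylow_two hG (hc ▸ (dvd_pow_self 2 (by omega)).mul_right _) T ?_
  rw [← hTe]
  infer_instance

variable {t d : ℕ} (ht : t * e = p - 1) {XA XP Y R : Finset (Cfsg.IrrCharacter G)}
include ht

/-- `e = p - 1` is impossible. -/
theorem Setup.two_le_t {ε : ℤ} (H : Shape P n e t ε d XA XP Y R) : 2 ≤ t := by
  by_contra hlt
  have hp3 := S.three_le_p hn hG
  obtain rfl : t = 1 := by
    rcases Nat.eq_zero_or_pos t with h | h
    · subst h; omega
    · omega
  have hodd : Odd p := hp.out.odd_of_ne_two (by omega)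
  obtain ⟨q, hq⟩ := hodd
  have he : e = 2 * q := by omega
  have hne : Even n := by
    rcases H.cases with ⟨-, -, h⟩ | ⟨-, -, h⟩
    · have h1 : Odd (XA.card * (n + 1)) := ⟨q - 1, by omega⟩
      rw [Nat.odd_mul, Nat.odd_add_one, Nat.not_odd_iff_even] at h1
      exact h1.2
    · have h1 : Odd ((n + 1) * (1 + 1 * XA.card)) := ⟨q - 1, by omega⟩
      rw [Nat.odd_mul, Nat.odd_add_one, Nat.not_odd_iff_even] at h1
      exact h1.1
  exact S.false_of_odd hn hG ⟨q, by omega⟩ ((hne.mul_right p).one_add)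

/-- Positive sign forces `n = 1` and `t = 2`. -/
theorem Setup.eq_one_of_pos (H : Shape P n e t 1 d XA XP Y R) : n = 1 ∧ t = 2 := by
  classical
  obtain ⟨-, hde, hrelA⟩ := H.cases.resolve_right fun h => absurd h.1 (by decide)
  subst hde
  have ht2 := S.two_le_t hn hG ht H
  have hd2 := S.two_le_e hn hG
  have hn1 := S.n_pos hn hG
  have hp3 := S.three_le_p hn hG
  have hte : (t : ℂ) * (d : ℂ) = (p : ℂ) - 1 := by
    rw [← Nat.cast_mul, ht, Nat.cast_sub hp.out.one_le, Nat.cast_one]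
  set Φ : G → ℂ := fun g => ∑ θ ∈ Y, (θ : G → ℂ) g * conj ((θ : G → ℂ) g) with hΦdef
  have hΦ : Cfsg.IsCharacter G Φ := by
    have h := Char.isCharacter_sum Y (χ := fun θ : Cfsg.IrrCharacter G =>
      fun g => (θ : G → ℂ) g * conj ((θ : G → ℂ) g)) fun θ _ =>
        Char.isCharacter_mul (Char.isCharacter_of_irr θ.2)
          (Char.isCharacter_conjFun (Char.isCharacter_of_irr θ.2))
    convert h using 1
    funext g; rw [Finset.sum_apply]
  obtain ⟨a, ha, ha'⟩ := Char.isCharacter_exists_coeff hΦ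
  have haT : (a (Char.trivialIrr G) : ℂ) = t := by
    rw [← ha' (Char.trivialIrr G), ← H.cardY, Cfsg.classInner]
    have h1 : ∀ g : G, Φ g * conj (((Char.trivialIrr G : Cfsg.IrrCharacter G) : G → ℂ) g) = Φ g := by
      intro g
      have : ((Char.trivialIrr G : Cfsg.IrrCharacter G) : G → ℂ) g = 1 := rfl
      rw [this, map_one, mul_one]
    rw [Finset.sum_congr rfl fun g _ => h1 g, hΦdef, Finset.sum_comm, Finset.mul_sum]
    refine (Finset.sum_congr rfl (g := fun _ => (1 : ℂ)) fun (θ : Cfsg.IrrCharacter G) _ => ?_).trans (by simp)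
    exact Char.classInner_irr_self θ.2
  -- values of `Φ` on `P`
  have hΦP : ∀ v ∈ (P : Subgroup G), v ≠ 1 → Φ v = (p : ℂ) - d := by
    intro v hv hv1
    have h := Char.sum_irr_mul_conj v v
    rw [if_pos (IsConj.refl v), S.card_centralizer hv hv1, H.split] at h
    have hT : ((Char.trivialIrr G : Cfsg.IrrCharacter G) : G → ℂ) v = 1 := rfl
    have e1 : ∀ χ ∈ XA, (χ : G → ℂ) v * conj ((χ : G → ℂ) v) = 1 := fun χ hχ => by
      rw [H.valA χ hχ v hv hv1]; simp
    have e2 : ∀ χ ∈ XP, (χ : G → ℂ) v * conj ((χ : G → ℂ) v) = 1 := fun χ hχ => by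
      rw [H.valP χ hχ v hv hv1]; simp
    have e3 : ∀ χ ∈ R, (χ : G → ℂ) v * conj ((χ : G → ℂ) v) = 0 := fun χ hχ => by
      rw [H.valR χ hχ v hv hv1]; simp
    rw [hT, map_one, mul_one, Finset.sum_congr rfl e1, Finset.sum_congr rfl e2, Finset.sum_congr rfl e3,
      Finset.sum_const, Finset.sum_const, Finset.sum_const_zero, add_zero] at h
    simp only [nsmul_eq_mul, mul_one] at h
    have hc : (XA.card : ℂ) + XP.card + 1 = d := by exact_mod_cast H.cardX
    show ∑ θ ∈ Y, (θ : G → ℂ) v * conj ((θ : G → ℂ) v) = _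
    linear_combination h - hc
  have hΦ1 : Φ 1 = (t : ℂ) * d * d := by
    show ∑ θ ∈ Y, (θ : G → ℂ) 1 * conj ((θ : G → ℂ) 1) = _
    rw [Finset.sum_congr rfl (fun θ hθ => by rw [H.degY θ hθ, map_natCast] :
      ∀ θ ∈ Y, (θ : G → ℂ) 1 * conj ((θ : G → ℂ) 1) = (d : ℂ) * d), Finset.sum_const, H.cardY,
      nsmul_eq_mul, mul_assoc]
  -- the linear form
  let L : (G → ℂ) → ℂ := fun f =>
    (p : ℂ) * ((n : ℂ) + 1) * f 1 - ((1 + n * p : ℕ) : ℂ) * ∑ v : ↥(P : Subgroup G), f v
  have hLΦ : L Φ = ∑ χ : Cfsg.IrrCharacter G, (a χ : ℂ) * L χ := by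
    simp only [L]
    conv_lhs => rw [ha]
    simp only [Finset.sum_apply, Pi.smul_apply, mul_sub, Finset.sum_sub_distrib]
    simp only [nsmul_eq_mul]
    rw [Finset.sum_comm (γ := ↥(P : Subgroup G))]
    simp only [Finset.mul_sum]
    congr 1 <;> refine Finset.sum_congr rfl fun χ _ => ?_
    · ring
    · exact Finset.sum_congr rfl fun v _ => by ring
  choose m am hm hsum hval hco using fun χ : Cfsg.IrrCharacter G =>
    S.exists_fixed_decomp (Char.isCharacter_of_irr χ.2)
  have hmY : ∀ θ ∈ Y, m θ = 0 := by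
    have h : ((∑ θ ∈ Y, m θ : ℕ) : ℂ) * p = 0 := by
      push_cast
      rw [Finset.sum_mul, Finset.sum_congr rfl fun θ _ => hm θ, Finset.sum_comm,
        S.sum_P (f := fun g => ∑ θ ∈ Y, (θ : G → ℂ) g) (c := -1) (fun v hv hv1 => by
          rw [H.valY v hv hv1]; simp),
        Finset.sum_congr rfl H.degY, Finset.sum_const, H.cardY, nsmul_eq_mul]
      linear_combination hte
    rcases mul_eq_zero.1 h with h | h
    · intro θ hθ
      have h' : ∑ θ ∈ Y, m θ = 0 := by exact_mod_cast h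
      exact Finset.sum_eq_zero_iff.1 h' θ hθ
    · exact absurd h (Nat.cast_ne_zero.2 hp.out.ne_zero)
  have hnonneg : ∀ χ : Cfsg.IrrCharacter G, χ ≠ Char.trivialIrr G → ∃ k : ℕ, L χ = k := by
    intro χ hχ
    rcases H.cover χ with h | h | h | h | h
    · exact absurd h hχ
    · refine ⟨0, ?_⟩
      simp only [L]
      rw [S.sum_P (H.valA χ h), H.degA χ h]
      push_cast; ring
    · refine ⟨p * (n + 1) * (p - 1), ?_⟩
      simp only [L]
      rw [S.sum_P (H.valP χ h), H.degP χ h]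
      push_cast [Nat.cast_sub hp.out.one_le]; ring
    · refine ⟨p * (n + 1) * d, ?_⟩
      simp only [L]
      rw [← hm χ, hmY χ h, H.degY χ h]
      push_cast; ring
    · obtain ⟨f, -, hf⟩ := Char.irr_one_pos χ.2
      refine ⟨(p - 1) * f, ?_⟩
      simp only [L]
      rw [S.sum_P (H.valR χ h), hf]
      push_cast [Nat.cast_sub hp.out.one_le]; ring
  choose! k hk using hnonneg
  have hT : L ((Char.trivialIrr G : Cfsg.IrrCharacter G) : G → ℂ) =
      (p : ℂ) * ((n : ℂ) + 1) - ((1 + n * p : ℕ) : ℂ) * p := by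
    simp only [L]
    rw [S.sum_P (f := ((Char.trivialIrr G : Cfsg.IrrCharacter G) : G → ℂ)) (c := 1) fun v _ _ => rfl,
      show ((Char.trivialIrr G : Cfsg.IrrCharacter G) : G → ℂ) 1 = 1 from rfl]
    ring
  simp only [L] at hLΦ hT
  rw [S.sum_P hΦP, hΦ1, ← Finset.add_sum_erase _ _ (Finset.mem_univ (Char.trivialIrr G)), haT, hT,
    Finset.sum_congr rfl (fun χ hχ => by rw [← hk χ (Finset.ne_of_mem_erase hχ)] :
      ∀ χ ∈ (Finset.univ : Finset (Cfsg.IrrCharacter G)).erase (Char.trivialIrr G),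
        (a χ : ℂ) * ((p : ℂ) * ((n : ℂ) + 1) * (χ : G → ℂ) 1 -
          ((1 + n * p : ℕ) : ℂ) * ∑ v : ↥(P : Subgroup G), (χ : G → ℂ) v) = (a χ : ℂ) * k χ)] at hLΦ
  obtain ⟨K, hK⟩ : ∃ K : ℕ, ∑ χ ∈ (Finset.univ : Finset (Cfsg.IrrCharacter G)).erase (Char.trivialIrr G),
      (a χ : ℂ) * (k χ : ℂ) = K :=
    ⟨∑ χ ∈ (Finset.univ : Finset (Cfsg.IrrCharacter G)).erase (Char.trivialIrr G), a χ * k χ, by push_cast; rfl⟩
  rw [hK] at hLΦ
  have key : (t : ℤ) * p * ((d : ℤ) * d - 1) * (n + 1) - t * p * (1 + n * p) * ((d : ℤ) - 1) = K := by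
    apply Int.cast_injective (α := ℂ)
    push_cast at hLΦ ⊢
    linear_combination hLΦ - (1 + (n : ℂ) * p) * ((p : ℂ) - d) * hte
  have hpte : (p : ℤ) = t * d + 1 := by exact_mod_cast (show p = t * d + 1 by omega)
  have h1 : 0 ≤ (t : ℤ) * p * ((d : ℤ) - 1) * d * ((n : ℤ) + 1 - n * t) := by
    have hK0 : (0 : ℤ) ≤ K := Int.natCast_nonneg _
    rw [← key] at hK0
    refine hK0.trans (le_of_eq ?_)
    rw [hpte]; ring
  have h2 : (0 : ℤ) < (t : ℤ) * p * ((d : ℤ) - 1) * d := by
    have : (0 : ℤ) < t := by exact_mod_cast (by omega : 0 < t)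
    have : (0 : ℤ) < p := by exact_mod_cast hp.out.pos
    have : (0 : ℤ) < (d : ℤ) - 1 := by omega
    have : (0 : ℤ) < d := by exact_mod_cast (by omega : 0 < d)
    positivity
  have h3 := (mul_nonneg_iff_of_pos_left h2).1 h1
  have h4 : n * t ≤ n + 1 := by exact_mod_cast (show (n : ℤ) * t ≤ n + 1 by linarith)
  have h5 : n * 2 ≤ n * t := Nat.mul_le_mul_left n ht2
  have hn' : n = 1 := by omega
  subst hn'
  exact ⟨rfl, by omega⟩

end Cfsg.Agent.SmallGroups.SelfCentPrime
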