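import Cfsg.Agent.SmallGroups.SelfCentPrime.MinusCases
import Cfsg.Agent.SmallGroups.EvenRecognition

/-!
# The case `e = 2`: recognition of `PSL(2, p - 1)`
-/

set_option linter.style.haveILetI false
set_option linter.unusedSectionVars false

noncomputable section

namespace Cfsg.Agent.SmallGroups.SelfCentPrime

open scoped Classical ComplexConjugate
open Cfsg Finset

universe u

variable {G : Type u} [Group G] [Fintype G]

/-- The sum of a character over a cyclic subgroup is a natural multiple of its order. -/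
theorem exists_sum_pow_eq {χ : G → ℂ} (hχ : Cfsg.IsCharacter G χ) (g : G) :
    ∃ k : ℕ, ∑ i : Fin (orderOf g), χ (g ^ (i : ℕ)) = (orderOf g : ℂ) * k := by
  obtain ⟨k, hk⟩ := Char.isCharacter_classInner_nat (Char.isCharacter_restrict hχ (Subgroup.zpowers g))
    (Char.trivialIrr ↥(Subgroup.zpowers g))
  refine ⟨k, ?_⟩
  have h1 : ∀ z : ↥(Subgroup.zpowers g),
      conj (((Char.trivialIrr ↥(Subgroup.zpowers g)) : ↥(Subgroup.zpowers g) → ℂ) z) = 1 := fun z => by
    show conj (1 : ℂ) = 1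
    simp
  rw [Cfsg.classInner, Nat.card_zpowers] at hk
  simp only [h1, mul_one] at hk
  have h0 : (orderOf g : ℂ) ≠ 0 := Nat.cast_ne_zero.2 (orderOf_pos g).ne'
  rw [inv_mul_eq_iff_eq_mul₀ h0, ← (finEquivZPowers (isOfFinOrder_of_finite g)).sum_comp] at hk
  exact hk

variable {p : ℕ} [hp : Fact p.Prime]
variable {P : Sylow p G} {x : G} {n : ℕ} (S : Setup P x 2) (hn : Nat.card (Sylow p G) = 1 + n * p)
  [IsSimpleGroup G] (hG : ¬ IsMulCommutative G) (hnf : NF p n) {t d : ℕ} (ht : t * 2 = p - 1)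
  {XA XP Y R : Finset (Cfsg.IrrCharacter G)} {m : Cfsg.IrrCharacter G → ℕ}
  (H : Shape P n 2 t (-1) d XA XP Y R) (hj : t * 1 = n + 1) (hA : XA = ∅)
  (hm : MinusValues P x n 2 1 XA XP Y R m)
include S hn hG hnf ht H hj hA hm

/-- The group is `PSL(2, p - 1)`. -/
theorem Setup.exists_equiv_psl_even (hn2 : 2 ≤ n) :
    ∃ (r : ℕ) (F : Type) (_ : Field F) (_ : Fintype F), Fintype.card F = 2 ^ r ∧ p = 2 ^ r + 1 ∧ 3 < p ∧
      Nonempty (G ≃* Matrix.ProjectiveSpecialLinearGroup (Fin 2) F) := by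
  classical
  subst hA
  have hp3 := S.three_le_p hn hG
  have hje : 1 * (1 + t * (∅ : Finset (Cfsg.IrrCharacter G)).card) + 1 = 2 := by simp
  have ht3 : 3 ≤ t := by omega
  have hpeq : p = 2 * t + 1 := by omega
  have htd : t * d = 1 + n * p := (H.cases.resolve_left fun h => absurd h.1 (by decide)).2.1
  have hA2 : 1 + n * p = t * (2 * t - 1) := by
    obtain ⟨q, rfl⟩ : ∃ q, t = q + 1 := ⟨t - 1, by omega⟩
    rw [show n = q by omega, hpeq, show 2 * (q + 1) - 1 = 2 * q + 1 by omega]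
    ring
  have hd : d = 2 * t - 1 := Nat.eq_of_mul_eq_mul_left (by omega : 0 < t) (htd.trans hA2)
  have hx : orderOf x = 2 := S.order
  have hxE := Subgroup.mem_zpowers x
  have hx1 : x ≠ 1 := fun h => by rw [h, orderOf_one] at hx; omega
  obtain ⟨θ₀, hθ₀⟩ : Y.Nonempty := by rw [← Finset.card_pos, H.cardY]; omega
  have hθx : ∀ θ ∈ Y, (θ : G → ℂ) x = -1 := by
    intro θ hθ
    simpa using hm.sum_AY θ hθ x hxE hx1
  have hCx : Nat.card ↥(Subgroup.centralizer ({x} : Set G)) = p - 1 := by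
    have h := S.card_centralizer_eq hn hG hnf ht H hj hje hm hxE hx1
    rw [Finset.sum_empty, Finset.sum_congr rfl (fun θ hθ => by rw [hθx θ hθ]; simp :
      ∀ θ ∈ Y, (θ : G → ℂ) x * conj ((θ : G → ℂ) x) = (1 : ℂ)), Finset.sum_const, H.cardY] at h
    have h' : Nat.card ↥(Subgroup.centralizer ({x} : Set G)) = 1 + t + n := by
      simp only [nsmul_eq_mul, mul_one, add_zero] at h
      exact_mod_cast h
    omega
  -- the exceptional characters vanish outside the classes of `1` and `x`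
  have hzero : ∀ g : G, ¬ p ∣ orderOf g → g ≠ 1 → ¬ IsConj g x → (θ₀ : G → ℂ) g = 0 := by
    intro g hg hg1 hgx
    have hrel : ∀ θ ∈ Y, (θ : G → ℂ) g = (θ₀ : G → ℂ) g := by
      intro θ hθ
      have h1 := H.rel θ hθ g hg
      have h2 := H.rel θ₀ hθ₀ g hg
      push_cast at h1 h2
      linear_combination h2 - h1
    have hP1 : ∑ χ ∈ XP, (χ : G → ℂ) g = 1 + (θ₀ : G → ℂ) g := by
      have h := H.rel θ₀ hθ₀ g hg
      rw [Finset.sum_empty] at h
      push_cast at h
      linear_combination h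
    have hT : ((Char.trivialIrr G : Cfsg.IrrCharacter G) : G → ℂ) g = 1 := rfl
    have h1 := Char.sum_irr_mul_conj g x
    rw [if_neg hgx, H.split, Finset.sum_empty,
      Finset.sum_congr rfl (fun χ hχ => by rw [hm.valP χ hχ x hxE hx1, map_zero, mul_zero] :
        ∀ χ ∈ XP, (χ : G → ℂ) g * conj ((χ : G → ℂ) x) = 0),
      Finset.sum_congr rfl (fun θ hθ => by rw [hθx θ hθ, hrel θ hθ]; simp :
        ∀ θ ∈ Y, (θ : G → ℂ) g * conj ((θ : G → ℂ) x) = -((θ₀ : G → ℂ) g)),
      Finset.sum_congr rfl (fun χ hχ => by rw [hm.valR χ hχ x hxE hx1, map_natCast] :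
        ∀ χ ∈ R, (χ : G → ℂ) g * conj ((χ : G → ℂ) x) = (χ : G → ℂ) g * (m χ : ℂ)),
      Finset.sum_const_zero, Finset.sum_const, H.cardY, hT,
      show ((Char.trivialIrr G : Cfsg.IrrCharacter G) : G → ℂ) x = 1 from rfl, map_one, nsmul_eq_mul] at h1
    have h2 := Char.sum_irr_mul_conj g 1
    rw [if_neg (fun hc => hg1 (isConj_one_right.1 hc.symm)), H.split, Finset.sum_empty,
      Finset.sum_congr rfl (fun χ hχ => by rw [H.degP χ hχ, map_natCast] :
        ∀ χ ∈ XP, (χ : G → ℂ) g * conj ((χ : G → ℂ) 1) = (χ : G → ℂ) g * ((p - 1 : ℕ) : ℂ)),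
      Finset.sum_congr rfl (fun θ hθ => by rw [H.degY θ hθ, hrel θ hθ, map_natCast] :
        ∀ θ ∈ Y, (θ : G → ℂ) g * conj ((θ : G → ℂ) 1) = (θ₀ : G → ℂ) g * (d : ℂ)),
      Finset.sum_congr rfl (fun χ hχ => by rw [hm.degR χ hχ, map_mul, map_natCast, map_natCast]; ring :
        ∀ χ ∈ R, (χ : G → ℂ) g * conj ((χ : G → ℂ) 1) = (p : ℂ) * ((χ : G → ℂ) g * (m χ : ℂ))),
      ← Finset.sum_mul, hP1, ← Finset.mul_sum, Finset.sum_const, H.cardY, hT,
      show ((Char.trivialIrr G : Cfsg.IrrCharacter G) : G → ℂ) 1 = 1 from rfl, map_one, nsmul_eq_mul] at h2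
    have hC : (((p - 1) + p * t + t * d : ℕ) : ℂ) ≠ 0 := Nat.cast_ne_zero.2 (by omega)
    have hmul : (((p - 1) + p * t + t * d : ℕ) : ℂ) * (θ₀ : G → ℂ) g = 0 := by
      push_cast [Nat.cast_sub hp.out.one_le] at h2 ⊢
      rw [← Finset.mul_sum] at h2
      linear_combination h2 - (p : ℂ) * h1
    exact (mul_eq_zero.1 hmul).resolve_left hC
  have hθ1 : (θ₀ : G → ℂ) 1 = (d : ℂ) := H.degY θ₀ hθ₀
  have hreg : ∀ {g : G} {r : ℕ}, orderOf g = r → ¬ p ∣ r → ¬ p ∣ orderOf g := fun h h' => h ▸ h'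
  -- one class of involutions
  have hinvol : ∀ g : G, orderOf g = 2 → IsConj g x := by
    intro g hg
    by_contra hgx
    have h0 := hzero g (hreg hg fun h => by have := Nat.le_of_dvd two_pos h; omega)
      (fun h => by rw [h, orderOf_one] at hg; omega) hgx
    obtain ⟨v, hv, hpar⟩ := exists_int_value hg θ₀
    rw [h0] at hv
    have hv0 : v = 0 := by exact_mod_cast hv.symm
    have h2 := hpar d hθ1
    rw [hv0] at h2
    omega
  have hodd : ∀ r : ℕ, r.Prime → r ∣ p - 1 → r = 2 := by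
    intro r hr hrd
    by_contra hr2
    have hrG : r ∣ Nat.card G := by
      rw [S.card_group hn, show p * 2 * (1 + n * p) = p * 2 * (1 + n * p) from rfl, hA2]
      exact hrd.trans ⟨p * (2 * t - 1), by rw [hpeq, Nat.add_sub_cancel]; ring⟩
    have := Fact.mk hr
    obtain ⟨g, hg⟩ := exists_prime_orderOf_dvd_card' (G := G) r hrG
    have hrp : ¬ p ∣ r := fun h => by
      have h1 := (Nat.prime_dvd_prime_iff_eq hp.out hr).1 h
      have h2 := Nat.le_of_dvd (by omega) hrd
      omega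
    obtain ⟨k, hk⟩ := exists_sum_pow_eq (Char.isCharacter_of_irr θ₀.2) g
    rw [Finset.sum_eq_single (⟨0, orderOf_pos g⟩ : Fin (orderOf g)) (fun i _ hi => ?_)
      (fun h => absurd (Finset.mem_univ _) h), pow_zero, hθ1, hg] at hk
    · have hk' : d = r * k := by exact_mod_cast hk
      have h1 : r ∣ p - 1 - d := Nat.dvd_sub hrd ⟨k, hk'⟩
      rw [show p - 1 - d = 1 by omega] at h1
      exact hr.one_lt.ne' (Nat.dvd_one.1 h1)
    · have hi0 : (i : ℕ) ≠ 0 := fun h => hi (Fin.ext h)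
      have ho : orderOf (g ^ (i : ℕ)) = r := by
        have hco : r.Coprime (i : ℕ) := hr.coprime_iff_not_dvd.2 fun h => by
          have h3 := Nat.le_of_dvd (Nat.pos_of_ne_zero hi0) h
          have h4 := i.2
          omega
        have key : ∀ o, o = r → Nat.Coprime o (i : ℕ) := fun o ho => ho ▸ hco
        rw [Nat.Coprime.orderOf_pow (key _ hg), hg]
      refine hzero _ (hreg ho hrp) (fun h => by rw [h, orderOf_one] at ho; exact hr.one_lt.ne ho) fun h => ?_
      obtain ⟨c, hc⟩ := isConj_iff.1 h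
      have h5 : orderOf x = r := by
        rw [← hc, show c * g ^ (i : ℕ) * c⁻¹ = MulAut.conj c (g ^ (i : ℕ)) from rfl, MulEquiv.orderOf_eq, ho]
      omega
  obtain ⟨r, hr⟩ : ∃ r, p - 1 = 2 ^ r :=
    ⟨_, Nat.eq_prime_pow_of_unique_prime_dvd (by omega) (fun hq hqd => hodd _ hq hqd)⟩
  have hr2 : 2 ≤ r := by
    by_contra h
    interval_cases r <;> omega
  -- no element of order four
  have hno4 : ∀ g : G, orderOf g ≠ 4 := by
    intro g hg
    obtain ⟨k, hk⟩ := exists_sum_pow_eq (Char.isCharacter_of_irr θ₀.2) g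
    have hg4 : ¬ p ∣ 4 := fun h => by
      have := Nat.le_of_dvd (by norm_num) h
      omega
    have h2 : orderOf (g ^ 2) = 2 := by rw [orderOf_pow_of_dvd two_ne_zero (hg ▸ by norm_num), hg]
    have h3 : orderOf (g ^ 3) = 4 := by rw [Nat.Coprime.orderOf_pow (by rw [hg]; norm_num), hg]
    have hne : ∀ z : G, orderOf z = 4 → (θ₀ : G → ℂ) z = 0 := by
      intro z hz
      refine hzero z (hreg hz hg4) (fun h => by rw [h, orderOf_one] at hz; omega) fun h => ?_
      obtain ⟨c, hc⟩ := isConj_iff.1 h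
      have h5 : orderOf x = 4 := by
        rw [← hc, show c * z * c⁻¹ = MulAut.conj c z from rfl, MulEquiv.orderOf_eq, hz]
      omega
    have hconj : (θ₀ : G → ℂ) (g ^ 2) = -1 := by
      rw [Char.isClassFunction_eq_of_isConj (Char.irr_isClassFunction θ₀.2) (hinvol _ h2), hθx θ₀ hθ₀]
    rw [← (finCongr hg.symm).sum_comp, Fin.sum_univ_four] at hk
    simp only [finCongr_apply, Fin.val_cast, Fin.val_zero, Fin.val_one, Fin.val_two, pow_zero, pow_one] at hk
    rw [hθ1, hne g hg, hconj, show ((3 : Fin 4) : ℕ) = 3 from rfl, hne (g ^ 3) h3, hg] at hk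
    have hk' : (d : ℤ) - 1 = 4 * k := by
      apply Int.cast_injective (α := ℂ)
      push_cast at hk ⊢
      linear_combination hk
    have h8 : 4 ∣ p - 1 := hr ▸ (pow_dvd_pow 2 hr2 : 2 ^ 2 ∣ 2 ^ r)
    omega
  set q := 2 ^ r with hqdef
  have hq : Even q := (Nat.even_pow).2 ⟨even_two, by omega⟩
  have hq4 : 4 ≤ q := le_trans (by norm_num) (Nat.pow_le_pow_right two_pos hr2)
  have hcard : Nat.card G = (q + 1) * (q * (q - 1)) := by
    rw [S.card_group hn, hA2, ← hr, show p - 1 + 1 = p by omega, hpeq,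
      show 2 * t + 1 - 1 = 2 * t by omega]
    ring
  have hinv : ∀ z y : G, orderOf z = 2 → Commute z y → ∃ j, orderOf y = 2 ^ j := by
    intro z y hz hzy
    obtain ⟨c, hc⟩ := isConj_iff.1 (hinvol z hz)
    have hcz : Nat.card ↥(Subgroup.centralizer ({z} : Set G)) = q := by
      rw [← hr, ← hCx, ← hc]
      conv_rhs => rw [show c * z * c⁻¹ = c⁻¹⁻¹ * z * c⁻¹ by group, Exceptional.card_centralizer_conj]
    have hd2 := Subgroup.orderOf_dvd_natCard _
      (Subgroup.mem_centralizer_singleton_iff.2 hzy.symm.eq : y ∈ Subgroup.centralizer ({z} : Set G))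
    rw [hcz] at hd2
    obtain ⟨j, -, hj⟩ := (Nat.dvd_prime_pow Nat.prime_two).1 hd2
    exact ⟨j, hj⟩
  have hoddpart : ¬ 2 ∣ p * (2 * t - 1) := fun h => by
    rcases Nat.prime_two.dvd_mul.1 h with h' | h' <;> omega
  have : Fact (Nat.Prime 2) := ⟨Nat.prime_two⟩
  have hT : ∀ T : Sylow 2 G, Nat.card ↥(T : Subgroup G) = q :=
    card_sylow_subgroup (by
      rw [S.card_group hn, hA2, ← hqdef, ← hr, hpeq, Nat.add_sub_cancel]; ring) hoddpart
  have hexp : ∀ (T : Sylow 2 G) (g : G), g ∈ (T : Subgroup G) → g ≠ 1 → orderOf g = 2 := by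
    intro T g hgT hg1
    have h1 := Subgroup.orderOf_dvd_natCard _ hgT
    rw [hT T] at h1
    obtain ⟨l, -, hl⟩ := (Nat.dvd_prime_pow Nat.prime_two).1 h1
    rcases l with _ | _ | l
    · exact absurd (orderOf_eq_one_iff.1 (hl.trans (pow_zero 2))) hg1
    · exact hl.trans (pow_one 2)
    · refine absurd ?_ (hno4 (g ^ 2 ^ l))
      rw [orderOf_pow_of_dvd (pow_ne_zero _ two_ne_zero) (hl ▸ pow_dvd_pow 2 (by omega)), hl,
        Nat.pow_div (by omega) two_pos]
      norm_num [show l + 2 - l = 2 by omega]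
  have hab : ∀ T : Sylow 2 G, IsMulCommutative ↥(T : Subgroup G) := by
    intro T
    refine ⟨⟨fun a b => ?_⟩⟩
    have hsq : ∀ c : ↥(T : Subgroup G), c * c = 1 := by
      intro c
      by_cases hc : (c : G) = 1
      · rw [show c = 1 from Subtype.ext hc, mul_one]
      · refine Subtype.ext ?_
        show (c : G) * c = 1
        exact (pow_two (c : G)).symm.trans (orderOf_dvd_iff_pow_eq_one.1 (hexp T c c.2 hc).dvd)
    calc a * b = (b * a)⁻¹ * ((b * a) * (a * b)) := by group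
      _ = (b * a)⁻¹ := by
        rw [show (b * a) * (a * b) = b * (a * a) * b by group, hsq, mul_one, hsq, mul_one]
      _ = b * a := inv_eq_of_mul_eq_one_right (hsq _)
  have hclass : (Finset.univ.filter fun g : G => IsConj x g).card = (q + 1) * (q - 1) := by
    have h := Char.card_isConj_mul_card_centralizer x
    rw [hCx, hcard, hr] at h
    refine Nat.eq_of_mul_eq_mul_right (show 0 < q by omega) ?_
    convert h.trans (show (q + 1) * (q * (q - 1)) = (q + 1) * (q - 1) * q by ring) using 5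
  have hse : (sylowElements 2 G).ncard = (q + 1) * (q - 1) := by
    rw [← hclass, ← Set.ncard_coe_finset]
    congr 1
    ext g
    simp only [sylowElements, Finset.coe_filter, Finset.mem_univ, true_and, Set.mem_ofPred_eq]
    refine ⟨fun ⟨hg1, T, hgT⟩ => (hinvol g (hexp T g hgT hg1)).symm, fun h => ?_⟩
    obtain ⟨c, hc⟩ := isConj_iff.1 h
    have hg : orderOf g = 2 := by
      rw [← hc, show c * x * c⁻¹ = MulAut.conj c x from rfl, MulEquiv.orderOf_eq, hx]
    obtain ⟨T, hT'⟩ := (IsPGroup.of_card (n := 1) (by rw [Nat.card_zpowers, hg, pow_one]) :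
      IsPGroup 2 ↥(Subgroup.zpowers g)).exists_le_sylow
    exact ⟨fun h1 => by rw [h1, orderOf_one] at hg; omega, T, hT' (Subgroup.mem_zpowers g)⟩
  have hge : q + 1 ≤ Nat.card (Sylow 2 G) := by
    let f : ↥(sylowElements 2 G) → Σ T : Sylow 2 G, {g : ↥(T : Subgroup G) // g ≠ 1} := fun g =>
      ⟨g.2.2.choose, ⟨g.1, g.2.2.choose_spec⟩, fun h => g.2.1 (congrArg Subtype.val h)⟩
    have hf : Function.Injective f := fun a b h => Subtype.ext
      (congrArg (fun s : Σ T : Sylow 2 G, {g : ↥(T : Subgroup G) // g ≠ 1} => (s.2.1 : G)) h)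
    have h1 := Nat.card_le_card_of_injective f hf
    rw [Nat.card_coe_set_eq, hse, Nat.card_sigma, Finset.sum_congr rfl (fun T _ => by
      rw [Nat.card_eq_fintype_card, Fintype.card_subtype_compl, Fintype.card_subtype_eq,
        ← Nat.card_eq_fintype_card, hT T] :
      ∀ T ∈ (Finset.univ : Finset (Sylow 2 G)), Nat.card {g : ↥(T : Subgroup G) // g ≠ 1} = q - 1),
      Finset.sum_const, Finset.card_univ, smul_eq_mul, ← Nat.card_eq_fintype_card] at h1
    exact Nat.le_of_mul_le_mul_right h1 (by omega)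
  letI := Fintype.ofFinite (GaloisField 2 r)
  have hgf : Fintype.card (GaloisField 2 r) = q := by
    rw [← Nat.card_eq_fintype_card]; exact GaloisField.card 2 r (by omega)
  exact ⟨r, GaloisField 2 r, inferInstance, inferInstance, hgf, by omega, by omega,
    nonempty_equiv_psl_even_of_counts hinv hG hq hq4 hcard hT hab hse.le hge hgf⟩

end Cfsg.Agent.SmallGroups.SelfCentPrime
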