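import Cfsg.Agent.SmallGroups.SelfCentPrime.Plus

/-!
# The negative exceptional sign: values on the complement of `P` in its normalizer
-/

set_option linter.style.haveILetI false
set_option linter.unusedSectionVars false

noncomputable section

namespace Cfsg.Agent.SmallGroups.SelfCentPrime

open scoped Classical ComplexConjugate
open Cfsg Finset

universe u

variable {G : Type u} [Group G] [Fintype G] {p : ℕ} [hp : Fact p.Prime]

/-- The values on the complement `⟨x⟩`, where `m χ` is the dimension of the fixed space of `P`. -/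
structure MinusValues (P : Sylow p G) (x : G) (n e j : ℕ) (XA XP Y R : Finset (Cfsg.IrrCharacter G))
    (m : Cfsg.IrrCharacter G → ℕ) : Prop where
  degR : ∀ χ ∈ R, (χ : G → ℂ) 1 = (p : ℂ) * m χ
  sumR : ∑ χ ∈ R, m χ ^ 2 = n
  valR : ∀ χ ∈ R, ∀ y ∈ Subgroup.zpowers x, y ≠ 1 → (χ : G → ℂ) y = m χ
  valP : ∀ χ ∈ XP, ∀ y ∈ Subgroup.zpowers x, y ≠ 1 → (χ : G → ℂ) y = 0
  normA : ∀ χ ∈ XA, ∀ y ∈ Subgroup.zpowers x, y ≠ 1 → ‖(χ : G → ℂ) y‖ ≤ (n : ℝ) + 1
  normY : ∀ χ ∈ Y, ∀ y ∈ Subgroup.zpowers x, y ≠ 1 → ‖(χ : G → ℂ) y‖ ≤ j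
  sqA : ∀ χ ∈ XA, ∑ y ∈ (Finset.univ : Finset ↥(Subgroup.zpowers x)).erase 1,
    (χ : G → ℂ) y * conj ((χ : G → ℂ) y) = ((n : ℂ) + 1) * e - ((n : ℂ) + 1) ^ 2
  sqY : ∀ χ ∈ Y, ∑ y ∈ (Finset.univ : Finset ↥(Subgroup.zpowers x)).erase 1,
    (χ : G → ℂ) y * conj ((χ : G → ℂ) y) = (j : ℂ) * e - (j : ℂ) ^ 2
  reY : ∀ χ ∈ Y, ((χ : G → ℂ) x).re < j
  sum_AY : ∀ θ ∈ Y, ∀ y ∈ Subgroup.zpowers x, y ≠ 1 →
    ∑ χ ∈ XA, (χ : G → ℂ) y + (θ : G → ℂ) y = -1

variable {P : Sylow p G} {x : G} {e n : ℕ} (S : Setup P x e) (hn : Nat.card (Sylow p G) = 1 + n * p)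
  [IsSimpleGroup G] (hG : ¬ IsMulCommutative G) {t d : ℕ} (ht : t * e = p - 1)
  {XA XP Y R : Finset (Cfsg.IrrCharacter G)} (H : Shape P n e t (-1) d XA XP Y R)
include S hn hG ht H

/-- The parameter `j = (n + 1) / t`. -/
theorem Setup.exists_j : ∃ j : ℕ, t * j = n + 1 ∧ j * (1 + t * XA.card) + 1 = e ∧ 0 < j := by
  have h := (H.cases.resolve_left fun h => absurd h.1 (by decide)).2.2
  have ht0 : 0 < t := by have := S.two_le_t hn hG ht H; omega
  have hdvd : t ∣ n + 1 := by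
    have h1 : t ∣ (n + 1) * (1 + t * XA.card) + t := h ▸ dvd_mul_right t e
    rw [Nat.dvd_add_self_right, mul_add, mul_one] at h1
    exact (Nat.dvd_add_left (Dvd.dvd.mul_left (dvd_mul_right t _) _)).1 h1
  obtain ⟨j, hj⟩ := hdvd
  refine ⟨j, hj.symm, Nat.eq_of_mul_eq_mul_left ht0 ?_, ?_⟩
  · rw [← h, hj]; ring
  · rcases Nat.eq_zero_or_pos j with h0 | h0
    · subst h0; simp at hj
    · exact h0

/-- The values on the complement. -/
theorem Setup.exists_minusValues {j : ℕ} (hj : t * j = n + 1) (hje : j * (1 + t * XA.card) + 1 = e)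
    (hj0 : 0 < j) : ∃ m, MinusValues P x n e j XA XP Y R m := by
  classical
  set E := Subgroup.zpowers x with hE
  choose m a hm hsum hval hco using fun χ : Cfsg.IrrCharacter G =>
    S.exists_fixed_decomp (Char.isCharacter_of_irr χ.2)
  have hp0 : (p : ℂ) ≠ 0 := Nat.cast_ne_zero.2 hp.out.ne_zero
  have he0 : (e : ℂ) ≠ 0 := Nat.cast_ne_zero.2 S.e_pos.ne'
  have htd : t * d = 1 + n * p := (H.cases.resolve_left fun h => absurd h.1 (by decide)).2.1
  have hcomm : ∀ a b : ↥E, a * b = b * a := fun a b => (inferInstance : IsMulCommutative ↥E).is_comm.comm a b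
  have hnorm : ∀ (μ : Cfsg.IrrCharacter ↥E) (y : ↥E), ‖(μ : ↥E → ℂ) y‖ ≤ 1 := by
    intro μ y
    have h := Char.isCharacter_norm_le (Char.isCharacter_of_irr μ.2) y
    rw [Char.irr_degree_one_of_comm hcomm μ.2] at h
    simpa using h
  have hnormχ : ∀ (χ : Cfsg.IrrCharacter G) (y : G), y ∈ E → y ≠ 1 → ‖(χ : G → ℂ) y‖ ≤ m χ := by
    intro χ y hy hy1
    rw [hval χ ⟨y, hy⟩ (fun h => hy1 (congrArg Subtype.val h))]
    refine (norm_sum_le _ _).trans ?_
    rw [← hsum χ]; push_cast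
    refine Finset.sum_le_sum fun μ _ => ?_
    rw [norm_mul, Complex.norm_natCast]
    exact mul_le_of_le_one_right (Nat.cast_nonneg _) (hnorm μ _)
  have hmA : ∀ χ ∈ XA, m χ = n + 1 := by
    intro χ hχ
    have h := hm χ
    rw [S.sum_P (H.valA χ hχ), H.degA χ hχ] at h
    have : (m χ : ℂ) = ((n + 1 : ℕ) : ℂ) := mul_right_cancel₀ hp0 (by rw [h]; push_cast; ring)
    exact_mod_cast this
  have hmP : ∀ χ ∈ XP, m χ = 0 := by
    intro χ hχ
    have h := hm χ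
    rw [S.sum_P (H.valP χ hχ), H.degP χ hχ, Nat.cast_sub hp.out.one_le, Nat.cast_one] at h
    have : (m χ : ℂ) * p = 0 := by rw [h]; ring
    exact_mod_cast (mul_eq_zero.1 this).resolve_right hp0
  have hmR : ∀ χ ∈ R, (χ : G → ℂ) 1 = (p : ℂ) * m χ := by
    intro χ hχ
    have h := hm χ
    rw [S.sum_P (H.valR χ hχ)] at h
    linear_combination -h
  have hmYsum : ∑ θ ∈ Y, m θ = t * j := by
    have h : ((∑ θ ∈ Y, m θ : ℕ) : ℂ) * p = ((n + 1 : ℕ) : ℂ) * p := by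
      push_cast
      rw [Finset.sum_mul, Finset.sum_congr rfl fun θ _ => hm θ, Finset.sum_comm,
        S.sum_P (f := fun g => ∑ θ ∈ Y, (θ : G → ℂ) g) (c := 1) (fun v hv hv1 => by
          rw [H.valY v hv hv1]; simp),
        Finset.sum_congr rfl H.degY, Finset.sum_const, H.cardY, nsmul_eq_mul]
      have : (t : ℂ) * d = 1 + n * p := by exact_mod_cast htd
      linear_combination this
    rw [hj]
    exact_mod_cast mul_right_cancel₀ hp0 h
  have hP0 : ∀ χ ∈ XP, ∀ y ∈ E, y ≠ 1 → (χ : G → ℂ) y = 0 := by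
    intro χ hχ y hy hy1
    have := hnormχ χ y hy hy1
    rw [hmP χ hχ, Nat.cast_zero] at this
    exact norm_le_zero_iff.1 this
  have hrel : ∀ θ ∈ Y, ∀ y ∈ E, y ≠ 1 → ∑ χ ∈ XA, (χ : G → ℂ) y + (θ : G → ℂ) y = -1 := by
    intro θ hθ y hy hy1
    have h := H.rel θ hθ y (S.not_dvd_orderOf hy)
    rw [Finset.sum_congr rfl (fun χ hχ => hP0 χ hχ y hy hy1 : ∀ χ ∈ XP, (χ : G → ℂ) y = 0),
      Finset.sum_const_zero] at h
    push_cast at h
    linear_combination -h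
  -- the multiplicities
  let T : Cfsg.IrrCharacter ↥E := Char.trivialIrr ↥E
  have hzero : ∀ μ : Cfsg.IrrCharacter ↥E, μ ≠ T →
      ∑ y ∈ (Finset.univ : Finset ↥E).erase 1, conj ((μ : ↥E → ℂ) y) = -1 := by
    intro μ hμ
    have h : ∑ y : ↥E, (μ : ↥E → ℂ) y = 0 := Char.irr_sum_eq_zero μ.2 fun h => hμ (Subtype.ext h)
    rw [← Finset.add_sum_erase _ _ (Finset.mem_univ (1 : ↥E)), Char.irr_degree_one_of_comm hcomm μ.2] at h
    rw [← map_sum, show ∑ y ∈ (Finset.univ : Finset ↥E).erase 1, (μ : ↥E → ℂ) y = -1 by linear_combination h]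
    simp
  have hT1 : ∀ y : ↥E, (T : ↥E → ℂ) y = 1 := fun y => rfl
  have hcardE : ((Finset.univ : Finset ↥E).erase 1).card + 1 = e := by
    rw [Finset.card_erase_add_one (Finset.mem_univ _), Finset.card_univ, ← Nat.card_eq_fintype_card,
      Nat.card_zpowers, S.order]
  have hcardE' : (((Finset.univ : Finset ↥E).erase 1).card : ℂ) + 1 = e := by exact_mod_cast hcardE
  have hje' : (j : ℂ) * (1 + t * XA.card) + 1 = e := by exact_mod_cast hje
  have hj' : (t : ℂ) * j = n + 1 := by exact_mod_cast hj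
  have hR : ∀ θ ∈ Y, ∀ μ : Cfsg.IrrCharacter ↥E,
      (((∑ χ ∈ XA, a χ μ) + a θ μ : ℕ) : ℂ) * e = ((n : ℂ) + 1) * XA.card + m θ +
        ∑ y ∈ (Finset.univ : Finset ↥E).erase 1, -conj ((μ : ↥E → ℂ) y) := by
    intro θ hθ μ
    push_cast
    rw [add_mul, Finset.sum_mul, Finset.sum_congr rfl fun χ _ => hco χ μ, hco θ μ, Finset.sum_add_distrib,
      Finset.sum_congr rfl (fun χ hχ => by rw [hmA χ hχ] : ∀ χ ∈ XA, (m χ : ℂ) = ((n + 1 : ℕ) : ℂ)),
      Finset.sum_const, nsmul_eq_mul, Finset.sum_comm]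
    have h : ∀ y ∈ (Finset.univ : Finset ↥E).erase 1, ∑ χ ∈ XA, (χ : G → ℂ) y * conj ((μ : ↥E → ℂ) y) +
        (θ : G → ℂ) y * conj ((μ : ↥E → ℂ) y) = -conj ((μ : ↥E → ℂ) y) := by
      intro y hy
      rw [← Finset.sum_mul, ← add_mul,
        hrel θ hθ y y.2 (fun h => Finset.ne_of_mem_erase hy (Subtype.ext h)), neg_one_mul]
    have h' := Finset.sum_congr rfl h
    rw [Finset.sum_add_distrib] at h'
    push_cast
    linear_combination h'
  have hmY : ∀ θ ∈ Y, m θ = j := by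
    have hge : ∀ θ ∈ Y, j ≤ m θ := by
      intro θ hθ
      have h := hR θ hθ T
      simp only [hT1, map_one, Finset.sum_const, nsmul_eq_mul] at h
      have h2 : (((((∑ χ ∈ XA, a χ T) + a θ T) * e + j : ℕ)) : ℂ) = (m θ : ℂ) := by
        push_cast at h ⊢
        linear_combination h - hcardE' + hje' - (XA.card : ℂ) * hj'
      have h3 : ((∑ χ ∈ XA, a χ T) + a θ T) * e + j = m θ := by exact_mod_cast h2
      omega
    intro θ hθ
    refine ((Finset.sum_eq_sum_iff_of_le (fun θ hθ => hge θ hθ)).1 ?_ θ hθ).symm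
    rw [hmYsum, Finset.sum_const, H.cardY, smul_eq_mul]
  have hR1 : ∀ θ ∈ Y, ∀ μ : Cfsg.IrrCharacter ↥E,
      (∑ χ ∈ XA, a χ μ) + a θ μ = if μ = T then 0 else 1 := by
    intro θ hθ μ
    have h := hR θ hθ μ
    rw [hmY θ hθ, Finset.sum_neg_distrib] at h
    refine Nat.eq_of_mul_eq_mul_right S.e_pos ?_
    apply Nat.cast_injective (R := ℂ)
    rw [Nat.cast_mul, Nat.cast_mul, h]
    split_ifs with hμ
    · subst hμ
      simp only [hT1, map_one, Finset.sum_const, nsmul_eq_mul, mul_one]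
      push_cast
      linear_combination -hcardE' + hje' - (XA.card : ℂ) * hj'
    · rw [hzero μ hμ]
      push_cast
      linear_combination hje' - (XA.card : ℂ) * hj'
  obtain ⟨θ₀, hθ₀⟩ : Y.Nonempty := by
    rw [← Finset.card_pos, H.cardY]
    have := S.two_le_t hn hG ht H
    omega
  have haA : ∀ χ ∈ XA, ∀ μ, a χ μ ≤ 1 ∧ (μ = T → a χ μ = 0) := by
    intro χ hχ μ
    have h := hR1 θ₀ hθ₀ μ
    have h1 := Finset.single_le_sum (f := fun χ => a χ μ) (fun _ _ => Nat.zero_le _) hχ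
    refine ⟨?_, fun hμ => ?_⟩
    · split_ifs at h <;> omega
    · rw [if_pos hμ] at h; omega
  have haY : ∀ θ ∈ Y, ∀ μ, a θ μ ≤ 1 ∧ (μ = T → a θ μ = 0) := by
    intro θ hθ μ
    have h := hR1 θ hθ μ
    refine ⟨?_, fun hμ => ?_⟩
    · split_ifs at h <;> omega
    · rw [if_pos hμ] at h; omega
  have hsq : ∀ χ : Cfsg.IrrCharacter G, (∀ μ, a χ μ ≤ 1) →
      ∑ y ∈ (Finset.univ : Finset ↥E).erase 1, (χ : G → ℂ) y * conj ((χ : G → ℂ) y) =
        (m χ : ℂ) * e - (m χ : ℂ) ^ 2 := by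
    intro χ h01
    rw [Finset.sum_congr rfl (g := fun y => ∑ μ, (a χ μ : ℂ) * ((μ : ↥E → ℂ) y * conj ((χ : G → ℂ) y)))
      (fun y hy => by
        nth_rw 1 [hval χ y (Finset.ne_of_mem_erase hy)]
        rw [Finset.sum_mul]
        exact Finset.sum_congr rfl fun μ _ => by ring), Finset.sum_comm]
    have h1 : ∀ μ : Cfsg.IrrCharacter ↥E,
        ∑ y ∈ (Finset.univ : Finset ↥E).erase 1, (a χ μ : ℂ) * ((μ : ↥E → ℂ) y * conj ((χ : G → ℂ) y)) =
          (a χ μ : ℂ) * ((a χ μ : ℂ) * e - m χ) := by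
      intro μ
      rw [← Finset.mul_sum]
      congr 1
      have h := congrArg conj (hco χ μ)
      simp only [map_mul, map_natCast, map_add, map_sum, Complex.conj_conj] at h
      rw [h, add_sub_cancel_left]
      exact Finset.sum_congr rfl fun y _ => mul_comm _ _
    have h2 : ∀ μ, (a χ μ : ℂ) * ((a χ μ : ℂ) * e - m χ) = (a χ μ : ℂ) * ((e : ℂ) - m χ) := by
      intro μ
      rcases Nat.le_one_iff_eq_zero_or_eq_one.1 (h01 μ) with h | h <;> simp [h]
    rw [Finset.sum_congr rfl fun μ _ => (h1 μ).trans (h2 μ), ← Finset.sum_mul, ← Nat.cast_sum, hsum]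
    ring
  -- characters outside the block
  have hU : ∑ χ ∈ R, (m χ : ℂ) ^ 2 = n := by
    have h := Char.sum_irr_degree_sq (G := G)
    rw [S.card_group hn, H.split,
      show ((Char.trivialIrr G : Cfsg.IrrCharacter G) : G → ℂ) 1 = 1 from rfl,
      Finset.sum_congr rfl (fun χ hχ => by rw [H.degA χ hχ] :
        ∀ χ ∈ XA, (χ : G → ℂ) 1 ^ 2 = ((1 + n * p : ℕ) : ℂ) ^ 2),
      Finset.sum_congr rfl (fun χ hχ => by rw [H.degP χ hχ] :
        ∀ χ ∈ XP, (χ : G → ℂ) 1 ^ 2 = ((p - 1 : ℕ) : ℂ) ^ 2),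
      Finset.sum_congr rfl (fun χ hχ => by rw [H.degY χ hχ] :
        ∀ χ ∈ Y, (χ : G → ℂ) 1 ^ 2 = (d : ℂ) ^ 2),
      Finset.sum_congr rfl (fun χ hχ => by rw [hmR χ hχ, mul_pow] :
        ∀ χ ∈ R, (χ : G → ℂ) 1 ^ 2 = (p : ℂ) ^ 2 * (m χ : ℂ) ^ 2), ← Finset.mul_sum] at h
    simp only [Finset.sum_const, nsmul_eq_mul, H.cardY, Nat.cast_sub hp.out.one_le] at h
    have hc : (XA.card : ℂ) + XP.card + 1 = e := by exact_mod_cast H.cardX
    have htd' : (t : ℂ) * d = 1 + n * p := by exact_mod_cast htd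
    have hte : (t : ℂ) * e = (p : ℂ) - 1 := by
      rw [← Nat.cast_mul, ht, Nat.cast_sub hp.out.one_le, Nat.cast_one]
    have ht0 : (t : ℂ) ≠ 0 := Nat.cast_ne_zero.2 (by have := S.two_le_t hn hG ht H; omega)
    push_cast at h
    refine mul_left_cancel₀ (mul_ne_zero ht0 (mul_ne_zero hp0 hp0)) ?_
    linear_combination (t : ℂ) * h - (t : ℂ) * ((p : ℂ) - 1) ^ 2 * hc -
      ((t : ℂ) * d + (1 + (n : ℂ) * p)) * htd' + ((p : ℂ) - 1) * hte +
      (p : ℂ) * (((p : ℂ) - 1) - (1 + (n : ℂ) * p)) * ((t : ℂ) * hje' - (1 + (t : ℂ) * XA.card) * hj')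
  have hvalR : ∀ χ ∈ R, ∀ y ∈ E, y ≠ 1 → (χ : G → ℂ) y = m χ := by
    intro χ₀ hχ₀ y hy hy1
    have h := Char.sum_irr_mul_conj y 1
    rw [if_neg (fun hc => hy1 (isConj_one_right.1 hc.symm)), H.split,
      show ((Char.trivialIrr G : Cfsg.IrrCharacter G) : G → ℂ) 1 = 1 from rfl,
      show ((Char.trivialIrr G : Cfsg.IrrCharacter G) : G → ℂ) y = 1 from rfl, map_one, mul_one,
      Finset.sum_congr rfl (fun χ hχ => by rw [H.degA χ hχ, map_natCast] :
        ∀ χ ∈ XA, (χ : G → ℂ) y * conj ((χ : G → ℂ) 1) = (χ : G → ℂ) y * ((1 + n * p : ℕ) : ℂ)),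
      Finset.sum_congr rfl (fun χ hχ => by rw [hP0 χ hχ y hy hy1, zero_mul] :
        ∀ χ ∈ XP, (χ : G → ℂ) y * conj ((χ : G → ℂ) 1) = 0),
      Finset.sum_congr rfl (fun χ hχ => by
        rw [H.degY χ hχ, map_natCast]
        congr 1
        linear_combination hrel χ hχ y hy hy1 - hrel θ₀ hθ₀ y hy hy1 :
        ∀ χ ∈ Y, (χ : G → ℂ) y * conj ((χ : G → ℂ) 1) = (θ₀ : G → ℂ) y * (d : ℂ)),
      Finset.sum_congr rfl (fun χ hχ => by rw [hmR χ hχ, map_mul, map_natCast, map_natCast] :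
        ∀ χ ∈ R, (χ : G → ℂ) y * conj ((χ : G → ℂ) 1) = (χ : G → ℂ) y * ((p : ℂ) * m χ)),
      ← Finset.sum_mul, Finset.sum_const_zero, Finset.sum_const, H.cardY, nsmul_eq_mul] at h
    have htd' : (t : ℂ) * d = 1 + n * p := by exact_mod_cast htd
    have h1 : ∑ χ ∈ R, (m χ : ℂ) * (χ : G → ℂ) y = n := by
      refine mul_left_cancel₀ hp0 ?_
      rw [Finset.mul_sum, Finset.sum_congr rfl (fun χ _ => by ring :
        ∀ χ ∈ R, (p : ℂ) * ((m χ : ℂ) * (χ : G → ℂ) y) = (χ : G → ℂ) y * ((p : ℂ) * m χ))]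
      push_cast at h
      linear_combination h - (1 + (n : ℂ) * p) * hrel θ₀ hθ₀ y hy hy1 - (θ₀ : G → ℂ) y * htd'
    have h2 : ∑ χ ∈ R, (m χ : ℝ) * ((m χ : ℝ) - ((χ : G → ℂ) y).re) = 0 := by
      have e1 := congrArg Complex.re h1
      have e2 := congrArg Complex.re hU
      simp only [Complex.re_sum, Complex.natCast_re, ← Nat.cast_pow] at e1 e2
      simp only [Complex.mul_re, Complex.natCast_re, Complex.natCast_im, zero_mul, sub_zero] at e1
      push_cast at e2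
      simp only [mul_sub, Finset.sum_sub_distrib, ← sq]
      linarith
    have hre : ∀ χ ∈ R, ((χ : G → ℂ) y).re ≤ m χ := fun χ _ =>
      (Complex.re_le_norm _).trans (hnormχ χ y hy hy1)
    have h3 := (Finset.sum_eq_zero_iff_of_nonneg fun χ hχ => mul_nonneg (Nat.cast_nonneg _)
      (sub_nonneg.2 (hre χ hχ))).1 h2 χ₀ hχ₀
    have hm0 : m χ₀ ≠ 0 := by
      intro h0
      exact Char.irr_one_ne_zero χ₀.2 (by rw [hmR χ₀ hχ₀, h0, Nat.cast_zero, mul_zero])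
    have h4 : ((χ₀ : G → ℂ) y).re = m χ₀ := by
      rcases mul_eq_zero.1 h3 with h5 | h5
      · exact absurd (by exact_mod_cast h5) hm0
      · linarith
    have h6 : Complex.normSq ((χ₀ : G → ℂ) y) ≤ (m χ₀ : ℝ) ^ 2 := by
      rw [← Complex.sq_norm]
      exact pow_le_pow_left₀ (norm_nonneg _) (hnormχ χ₀ y hy hy1) 2
    rw [Complex.normSq_apply, h4] at h6
    have h7 : ((χ₀ : G → ℂ) y).im = 0 := by nlinarith
    exact Complex.ext (by simp [h4]) (by simp [h7])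
  refine ⟨m, hmR, by exact_mod_cast hU, hvalR, hP0, fun χ hχ y hy hy1 => ?_, fun χ hχ y hy hy1 => ?_,
    fun χ hχ => ?_, fun χ hχ => ?_, fun χ hχ => ?_, hrel⟩
  · have := hnormχ χ y hy hy1
    rw [hmA χ hχ] at this
    push_cast at this
    exact this
  · have := hnormχ χ y hy hy1
    rwa [hmY χ hχ] at this
  · rw [hsq χ fun μ => (haA χ hχ μ).1, hmA χ hχ]; push_cast; ring
  · rw [hsq χ fun μ => (haY χ hχ μ).1, hmY χ hχ]
  · have hx1 : x ≠ 1 := by
      intro h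
      have h1 := S.order
      rw [h, orderOf_one] at h1
      have := S.two_le_e hn hG
      omega
    have hxE : (⟨x, Subgroup.mem_zpowers x⟩ : ↥E) ≠ 1 := fun h => hx1 (congrArg Subtype.val h)
    rw [show ((χ : G → ℂ) x) = (χ : G → ℂ) (⟨x, Subgroup.mem_zpowers x⟩ : ↥E) from rfl, hval χ _ hxE,
      Complex.re_sum, ← hmY χ hχ, ← hsum χ, Nat.cast_sum]
    simp only [Complex.mul_re, Complex.natCast_re, Complex.natCast_im, zero_mul, sub_zero]
    have hlt : ∀ μ : Cfsg.IrrCharacter ↥E, μ ≠ T →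
        ((μ : ↥E → ℂ) ⟨x, Subgroup.mem_zpowers x⟩).re < 1 := by
      intro μ hμ
      refine lt_of_le_of_ne ((Complex.re_le_norm _).trans (hnorm μ _)) fun h => hμ (Subtype.ext (funext fun y => ?_))
      obtain ⟨f, hf⟩ := Char.irr_exists_monoidHom_of_comm hcomm μ.2
      have h1 : (μ : ↥E → ℂ) ⟨x, Subgroup.mem_zpowers x⟩ = 1 := by
        have h2 : Complex.normSq ((μ : ↥E → ℂ) ⟨x, Subgroup.mem_zpowers x⟩) ≤ 1 := by
          rw [← Complex.sq_norm]
          exact pow_le_one₀ (norm_nonneg _) (hnorm μ _)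
        rw [Complex.normSq_apply, h] at h2
        exact Complex.ext (by simp [h]) (by simp; nlinarith)
      rw [hT1, hf]
      obtain ⟨i, hi⟩ := Subgroup.mem_zpowers_iff.1 y.2
      have hy : y = (⟨x, Subgroup.mem_zpowers x⟩ : ↥E) ^ i := Subtype.ext (by simp [hi])
      have hfx : f ⟨x, Subgroup.mem_zpowers x⟩ = 1 := Units.ext (by rw [← hf, h1]; rfl)
      rw [hy, map_zpow, hfx, one_zpow, Units.val_one]
    refine Finset.sum_lt_sum (fun μ _ => mul_le_of_le_one_right (Nat.cast_nonneg _)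
      ((Complex.re_le_norm _).trans (hnorm μ _))) ?_
    obtain ⟨μ, -, hμ⟩ : ∃ μ ∈ (Finset.univ : Finset (Cfsg.IrrCharacter ↥E)), a χ μ ≠ 0 :=
      Finset.exists_ne_zero_of_sum_ne_zero (by rw [hsum χ, hmY χ hχ]; omega)
    exact ⟨μ, Finset.mem_univ _, mul_lt_of_lt_one_right (Nat.cast_pos.2 (Nat.pos_of_ne_zero hμ))
      (hlt μ fun h => hμ ((haY χ hχ μ).2 h))⟩

end Cfsg.Agent.SmallGroups.SelfCentPrime
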