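import Cfsg.Agent.SmallGroups.SelfCentPrime.Structure

/-!
# The irreducible characters for a self-centralizing subgroup of prime order with few conjugates

With `1 + n p` Sylow subgroups and `2 n < p + 3` the non-exceptional characters of the principal block have
degree `1 + n p` or `p - 1`.
-/

set_option linter.style.haveILetI false
set_option linter.unusedSectionVars false

noncomputable section

namespace Cfsg.Agent.SmallGroups.SelfCentPrime

open scoped Classical ComplexConjugate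
open Cfsg Finset

universe u

variable {G : Type u} [Group G] [Fintype G] {p : ℕ} [hp : Fact p.Prime]

/-- The irreducible characters, sorted by degree and by the values on `P`. -/
structure Shape (P : Sylow p G) (n e t : ℕ) (ε : ℤ) (d : ℕ)
    (XA XP Y R : Finset (Cfsg.IrrCharacter G)) : Prop where
  split : ∀ F : Cfsg.IrrCharacter G → ℂ,
    ∑ χ, F χ = F (Char.trivialIrr G) + ∑ χ ∈ XA, F χ + ∑ χ ∈ XP, F χ + ∑ χ ∈ Y, F χ + ∑ χ ∈ R, F χ
  cover : ∀ χ : Cfsg.IrrCharacter G, χ = Char.trivialIrr G ∨ χ ∈ XA ∨ χ ∈ XP ∨ χ ∈ Y ∨ χ ∈ R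
  degA : ∀ χ ∈ XA, (χ : G → ℂ) 1 = ((1 + n * p : ℕ) : ℂ)
  degP : ∀ χ ∈ XP, (χ : G → ℂ) 1 = ((p - 1 : ℕ) : ℂ)
  degY : ∀ χ ∈ Y, (χ : G → ℂ) 1 = (d : ℂ)
  valA : ∀ χ ∈ XA, ∀ v ∈ (P : Subgroup G), v ≠ 1 → (χ : G → ℂ) v = 1
  valP : ∀ χ ∈ XP, ∀ v ∈ (P : Subgroup G), v ≠ 1 → (χ : G → ℂ) v = -1
  valY : ∀ v ∈ (P : Subgroup G), v ≠ 1 → ∑ χ ∈ Y, (χ : G → ℂ) v = -(ε : ℂ)
  valR : ∀ χ ∈ R, ∀ v ∈ (P : Subgroup G), v ≠ 1 → (χ : G → ℂ) v = 0
  cardY : Y.card = t
  cardX : XA.card + XP.card + 1 = e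
  rel : ∀ θ ∈ Y, ∀ g : G, ¬ p ∣ orderOf g →
    (ε : ℂ) * (θ : G → ℂ) g = 1 + ∑ χ ∈ XA, (χ : G → ℂ) g - ∑ χ ∈ XP, (χ : G → ℂ) g
  cases : (ε = 1 ∧ d = e ∧ XA.card * (n + 1) + 1 = e) ∨
    (ε = -1 ∧ t * d = 1 + n * p ∧ (n + 1) * (1 + t * XA.card) + t = t * e)

variable {P : Sylow p G} {x : G} {e n : ℕ} (S : Setup P x e) (hn : Nat.card (Sylow p G) = 1 + n * p)
include S hn

theorem Setup.card_group : Nat.card G = p * e * (1 + n * p) := by
  rw [← card_sylow_mul_card_normalizer P, hn, card_normalizer S.cardP S.cent S.rel]; ring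

variable [IsSimpleGroup G] (hG : ¬ IsMulCommutative G)
include hG

theorem Setup.two_le_e : 2 ≤ e := by
  have h1 := (relIndex_centralizer_prime hG P S.cardP).2
  rw [S.rel] at h1
  have := S.e_pos
  omega

theorem Setup.three_le_p : 3 ≤ p := by
  have h1 := S.two_le_e hn hG
  have := hp.out.two_le
  have h2 := Nat.le_of_dvd (by omega) S.e_dvd
  omega

theorem Setup.n_pos : 1 ≤ n := by
  have h := one_lt_card_sylow hG (p := p) (S.card_group hn ▸ ⟨e * (1 + n * p), by ring⟩)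
  rw [hn] at h
  rcases Nat.eq_zero_or_pos n with h0 | h0
  · subst h0; omega
  · exact h0

/-- The classification of the irreducible characters. -/
theorem Setup.exists_shape (hnf : NF p n) :
    ∃ (t : ℕ) (ε : ℤ) (d : ℕ) (XA XP Y R : Finset (Cfsg.IrrCharacter G)),
      t * e = p - 1 ∧ Shape P n e t ε d XA XP Y R := by
  classical
  obtain ⟨M, hM⟩ := BlkChar.exists_isPModular p hp.out
  obtain ⟨X, Y, sgn, ε, hdisj, hB, hXc, hYc, hTX, hTs, hε, hXd, hYd, hYsum, hrel⟩ :=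
    OrderP.exists_block_data hM P S.cardP e S.rel
  obtain ⟨t, ht⟩ : ∃ t, t * e = p - 1 := ⟨(p - 1) / e, Nat.div_mul_cancel S.e_dvd⟩
  have he2 := S.two_le_e hn hG
  have hp3 := S.three_le_p hn hG
  have hn1 := S.n_pos hn hG
  have hYt : Y.card = t := by rw [hYc, ← ht, Nat.mul_div_cancel _ (by omega)]
  have hcard := S.card_group hn
  choose dg hdg0 hdg hdgdvd using fun χ : Cfsg.IrrCharacter G => Char.irr_degree_dvd_card χ.2
  have hcd : ∀ χ : Cfsg.IrrCharacter G, Cfsg.charDegree (χ : G → ℂ) = dg χ :=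
    fun χ => Char.charDegree_of_eq (hdg χ)
  have hdgT : dg (Char.trivialIrr G) = 1 := by
    have h := (hdg (Char.trivialIrr G)).symm.trans
      (show ((Char.trivialIrr G : Cfsg.IrrCharacter G) : G → ℂ) 1 = 1 from rfl)
    exact_mod_cast h
  -- the bound on a degree
  have hsq : ∀ χ : Cfsg.IrrCharacter G, dg χ * dg χ ≤ Nat.card G := by
    intro χ
    have h : ∑ φ : Cfsg.IrrCharacter G, (dg φ : ℝ) ^ 2 = Nat.card G := by
      have h := Char.sum_irr_degree_sq (G := G)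
      simp only [hdg] at h
      exact_mod_cast h
    have h' : (dg χ : ℝ) ^ 2 ≤ Nat.card G :=
      h ▸ Finset.single_le_sum (f := fun φ : Cfsg.IrrCharacter G => (dg φ : ℝ) ^ 2)
        (fun _ _ => sq_nonneg _) (Finset.mem_univ χ)
    rw [← sq]
    exact_mod_cast h'
  have hbig : ∀ a : ℕ, a * a ≤ Nat.card G → a ≠ (p - 1) * (1 + n * p) := by
    rintro a ha rfl
    rw [hcard] at ha
    obtain ⟨q, rfl⟩ : ∃ q, p = q + 1 := ⟨p - 1, by omega⟩
    rw [Nat.add_sub_cancel] at ha ht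
    have hq : 2 ≤ q := by omega
    have he' : e ≤ q := Nat.le_of_dvd (by omega) (ht ▸ dvd_mul_left e t)
    have hA : q + 2 ≤ 1 + n * (q + 1) := by
      have := Nat.le_mul_of_pos_left (q + 1) hn1
      omega
    have h1 : (q + 1) * e * (1 + n * (q + 1)) ≤ (q + 1) * q * (1 + n * (q + 1)) :=
      Nat.mul_le_mul_right _ (Nat.mul_le_mul_left _ he')
    have h2 : q * (q + 2) * (q * (1 + n * (q + 1))) ≤
        q * (1 + n * (q + 1)) * (q * (1 + n * (q + 1))) :=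
      Nat.mul_le_mul_right _ (Nat.mul_le_mul_left _ hA)
    have h3 : 0 < q * (1 + n * (q + 1)) := Nat.mul_pos (by omega) (by omega)
    have h4 : q * (q + 2) * (q * (1 + n * (q + 1))) ≤ (q + 1) * (q * (1 + n * (q + 1))) := by
      calc _ ≤ _ := h2
        _ ≤ _ := ha
        _ ≤ _ := h1
        _ = _ := by ring
    have h5 := Nat.le_of_mul_le_mul_right h4 h3
    nlinarith
  -- degrees are prime to `p`, so divide `(p - 1) A`
  have hdiv : ∀ χ : Cfsg.IrrCharacter G, ¬ p ∣ dg χ → t * dg χ ∣ (p - 1) * (1 + n * p) := by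
    intro χ hχ
    have h : dg χ ∣ p * (e * (1 + n * p)) := by rw [← mul_assoc, ← hcard]; exact hdgdvd χ
    have h2 := (((hp.out.coprime_iff_not_dvd).2 hχ).symm.dvd_of_dvd_mul_left h)
    rw [← ht, mul_assoc]
    exact Nat.mul_dvd_mul_left t h2
  have hnd : ∀ (a : ℕ) (s : ℤ), (p : ℤ) ∣ (a : ℤ) - s → ¬ (p : ℤ) ∣ s → ¬ p ∣ a := by
    intro a s h hs hpa
    have : (p : ℤ) ∣ (a : ℤ) := by exact_mod_cast hpa
    exact hs (by simpa using dvd_sub this h)
  have hXdeg : ∀ χ ∈ X.erase (Char.trivialIrr G),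
      (sgn χ = 1 ∧ dg χ = 1 + n * p) ∨ (sgn χ = -1 ∧ dg χ = p - 1) := by
    intro χ hχ
    obtain ⟨hne, hχX⟩ := Finset.mem_erase.1 hχ
    obtain ⟨hs, hd, -⟩ := hXd χ hχX
    rw [hcd] at hd
    have h1 : 1 < dg χ := Exceptional.one_lt_degree hp.out hG hne (hdg χ)
    have hns : ¬ (p : ℤ) ∣ sgn χ := by
      intro h
      have hp' := Int.natAbs_dvd_natAbs.2 h
      rcases hs with h' | h' <;> rw [h'] at hp' <;>
        exact hp.out.one_lt.ne' (Nat.dvd_one.1 (by simpa using hp'))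
    rcases divisor_cases_nf hp.out.two_le hnf hs
      ((dvd_mul_left _ t).trans (hdiv χ (hnd _ _ hd hns))) hd with ⟨h2, h3 | h3⟩ | ⟨h2, h3 | h3⟩
    · omega
    · exact .inl ⟨h2, h3⟩
    · exact .inr ⟨h2, h3⟩
    · exact absurd h3 (hbig _ (hsq χ))
  set XA := (X.erase (Char.trivialIrr G)).filter fun χ => sgn χ = 1 with hXA
  set XP := (X.erase (Char.trivialIrr G)).filter fun χ => ¬ sgn χ = 1 with hXP
  have hsgnP : ∀ χ ∈ XP, sgn χ = -1 ∧ dg χ = p - 1 := by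
    intro χ hχ
    obtain ⟨h1, h2⟩ := Finset.mem_filter.1 hχ
    exact (hXdeg χ h1).resolve_left fun h => h2 h.1
  have hsgnA : ∀ χ ∈ XA, dg χ = 1 + n * p := by
    intro χ hχ
    obtain ⟨h1, h2⟩ := Finset.mem_filter.1 hχ
    rcases hXdeg χ h1 with h | h
    · exact h.2
    · omega
  have hsplitX : ∀ F : Cfsg.IrrCharacter G → ℂ,
      ∑ χ ∈ X, F χ = F (Char.trivialIrr G) + (∑ χ ∈ XA, F χ + ∑ χ ∈ XP, F χ) := by
    intro F
    rw [← Finset.add_sum_erase _ _ hTX, Finset.sum_filter_add_sum_filter_not]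
  have hcardX : XA.card + XP.card + 1 = e := by
    rw [Finset.card_filter_add_card_filter_not, Finset.card_erase_of_mem hTX, hXc]
    omega
  obtain ⟨θ₀, hθ₀⟩ : Y.Nonempty := by
    rw [← Finset.card_pos, hYt]
    rcases Nat.eq_zero_or_pos t with h | h
    · subst h; omega
    · exact h
  have hone : ¬ p ∣ orderOf (1 : G) := by rw [orderOf_one]; exact hp.out.not_dvd_one
  have hεC : (ε : ℂ) ≠ 0 := by rcases hε with rfl | rfl <;> norm_num
  have hYdeg : ∀ θ ∈ Y, (θ : G → ℂ) 1 = (dg θ₀ : ℂ) := by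
    intro θ hθ
    have h := (hrel θ hθ 1 hone).trans (hrel θ₀ hθ₀ 1 hone).symm
    rw [hdg θ₀] at h
    exact mul_left_cancel₀ hεC h
  have hrel' : ∀ θ ∈ Y, ∀ g : G, ¬ p ∣ orderOf g →
      (ε : ℂ) * (θ : G → ℂ) g = 1 + ∑ χ ∈ XA, (χ : G → ℂ) g - ∑ χ ∈ XP, (χ : G → ℂ) g := by
    intro θ hθ g hg
    rw [hrel θ hθ g hg, hsplitX, hTs, Finset.sum_congr rfl (fun χ hχ => by rw [(Finset.mem_filter.1 hχ).2]; simp :
        ∀ χ ∈ XA, (sgn χ : ℂ) * (χ : G → ℂ) g = (χ : G → ℂ) g),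
      Finset.sum_congr rfl (fun χ hχ => by rw [(hsgnP χ hχ).1]; simp :
        ∀ χ ∈ XP, (sgn χ : ℂ) * (χ : G → ℂ) g = -((χ : G → ℂ) g)), Finset.sum_neg_distrib]
    have : ((Char.trivialIrr G : Cfsg.IrrCharacter G) : G → ℂ) g = 1 := rfl
    rw [this]; push_cast; ring
  -- the exceptional degree
  have hθd : (p : ℤ) ∣ (dg θ₀ : ℤ) - ε * e := hcd θ₀ ▸ hYd θ₀ hθ₀
  have hnp : ¬ (p : ℤ) ∣ ε * e := by
    intro h
    have h' := Int.natAbs_dvd_natAbs.2 h
    have : (ε * e).natAbs = e := by rcases hε with rfl | rfl <;> simp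
    rw [this, Int.natAbs_natCast] at h'
    have h2 := Nat.le_of_dvd (by omega) (h'.trans S.e_dvd)
    omega
  have htd : (p : ℤ) ∣ ((t * dg θ₀ : ℕ) : ℤ) - (-ε) := by
    have h : (p : ℤ) ∣ (t : ℤ) * ((dg θ₀ : ℤ) - ε * e) + ε * p :=
      dvd_add (hθd.mul_left _) (dvd_mul_left _ _)
    have hte : (t : ℤ) * e = (p : ℤ) - 1 := by
      have := congrArg (fun z : ℕ => (z : ℤ)) ht
      push_cast [Nat.cast_sub (show 1 ≤ p by omega)] at this
      exact this
    convert h using 1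
    push_cast
    linear_combination (ε : ℤ) * hte
  have hθ1 : 1 < dg θ₀ := Exceptional.one_lt_degree hp.out hG
    (fun h => Finset.disjoint_left.1 hdisj hTX (h ▸ hθ₀)) (hdg θ₀)
  have ht0 : 1 ≤ t := hYt ▸ Finset.card_pos.2 ⟨θ₀, hθ₀⟩
  have hdcases : (ε = 1 ∧ dg θ₀ = e) ∨ (ε = -1 ∧ t * dg θ₀ = 1 + n * p) := by
    have hs : -ε = 1 ∨ -ε = -1 := by omega
    rcases divisor_cases_nf hp.out.two_le hnf hs (hdiv θ₀ (hnd _ _ hθd hnp)) htd with
      ⟨h2, h3 | h3⟩ | ⟨h2, h3 | h3⟩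
    · have := Nat.le_mul_of_pos_left (dg θ₀) ht0; omega
    · exact .inr ⟨by omega, h3⟩
    · refine .inl ⟨by omega, ?_⟩
      rw [← ht] at h3
      exact Nat.eq_of_mul_eq_mul_left ht0 h3
    · exfalso
      rw [← ht, mul_assoc] at h3
      have h4 : dg θ₀ = e * (1 + n * p) := Nat.eq_of_mul_eq_mul_left ht0 h3
      have h5 := hsq θ₀
      rw [h4, hcard, show p * e * (1 + n * p) = p * (e * (1 + n * p)) by ring] at h5
      have h6 := Nat.le_of_mul_le_mul_right h5 (Nat.mul_pos (by omega) (by omega))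
      have h7 : 2 * (1 + n * p) ≤ e * (1 + n * p) := Nat.mul_le_mul_right _ he2
      have h8 := Nat.le_mul_of_pos_left p hn1
      omega
  have hdeg1 : (ε : ℤ) * dg θ₀ = 1 + XA.card * (1 + n * p : ℕ) - XP.card * (p - 1 : ℕ) := by
    have h := hrel' θ₀ hθ₀ 1 hone
    rw [hdg θ₀, Finset.sum_congr rfl (fun χ hχ => by rw [hdg χ, hsgnA χ hχ] :
        ∀ χ ∈ XA, (χ : G → ℂ) 1 = ((1 + n * p : ℕ) : ℂ)),
      Finset.sum_congr rfl (fun χ hχ => by rw [hdg χ, (hsgnP χ hχ).2] :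
        ∀ χ ∈ XP, (χ : G → ℂ) 1 = ((p - 1 : ℕ) : ℂ)),
      Finset.sum_const, Finset.sum_const, nsmul_eq_mul, nsmul_eq_mul] at h
    exact_mod_cast h
  have hcases : (ε = 1 ∧ dg θ₀ = e ∧ XA.card * (n + 1) + 1 = e) ∨
      (ε = -1 ∧ t * dg θ₀ = 1 + n * p ∧ (n + 1) * (1 + t * XA.card) + t = t * e) := by
    have hte : (t : ℤ) * e + 1 = p := by
      exact_mod_cast (show t * e + 1 = p by omega)
    have hm : (XP.card : ℤ) = (e : ℤ) - 1 - XA.card := by
      have h' : ((XA.card + XP.card + 1 : ℕ) : ℤ) = (e : ℤ) := by rw [hcardX]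
      push_cast at h'; linarith
    push_cast [Nat.cast_sub (show 1 ≤ p by omega)] at hdeg1
    rw [hm] at hdeg1
    have hp0 : (p : ℤ) ≠ 0 := by exact_mod_cast hp.out.ne_zero
    rcases hdcases with ⟨h1, h2⟩ | ⟨h1, h2⟩
    · refine .inl ⟨h1, h2, ?_⟩
      rw [h1, h2] at hdeg1
      zify
      refine mul_left_cancel₀ hp0 ?_
      linear_combination -hdeg1
    · refine .inr ⟨h1, h2, ?_⟩
      rw [h1] at hdeg1
      have h2' : (t : ℤ) * dg θ₀ = 1 + n * p := by exact_mod_cast h2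
      zify
      refine mul_left_cancel₀ hp0 ?_
      linear_combination (-(t : ℤ)) * hdeg1 - h2' - hte
  have hc : Nat.card ↥(Subgroup.centralizer ((P : Subgroup G) : Set G)) = p * 1 := by
    rw [S.cent, mul_one]; exact S.cardP
  have hvanish : ∀ χ : Cfsg.IrrCharacter G, χ ∉ Cfsg.principalBlock M G →
      ∀ v ∈ (P : Subgroup G), v ≠ 1 → (χ : G → ℂ) v = 0 := by
    intro χ hχ v hv hv1
    have h := OrderP.sum_section_eq_zero P S.cardP hv hv1 hc hM hχ
    have hsec : OrderP.sectionSet P v = {v} := by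
      obtain ⟨w, hw⟩ := Finset.card_eq_one.1 (OrderP.card_sectionSet P S.cardP hv hv1 hc)
      have : v ∈ OrderP.sectionSet P v := Finset.mem_image.2 ⟨1, by
        simp only [Finset.mem_filter, Finset.mem_univ, true_and]; exact ⟨one_mem _, hone⟩, mul_one v⟩
      rw [hw] at this ⊢
      rw [Finset.mem_singleton.1 this]
    rwa [hsec, Finset.sum_singleton] at h
  refine ⟨t, ε, dg θ₀, XA, XP, Y, (X ∪ Y)ᶜ, ht,
    ⟨fun F => ?_, fun χ => ?_, fun χ h => by rw [hdg χ, hsgnA χ h],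
      fun χ h => by rw [hdg χ, (hsgnP χ h).2], hYdeg, ?_, ?_, hYsum, ?_, hYt, hcardX, hrel', hcases⟩⟩
  · rw [← Finset.sum_add_sum_compl (X ∪ Y), Finset.sum_union hdisj, hsplitX]
    ring
  · by_cases h1 : χ = Char.trivialIrr G
    · exact .inl h1
    by_cases h2 : χ ∈ X
    · by_cases h3 : sgn χ = 1
      · exact .inr (.inl (Finset.mem_filter.2 ⟨Finset.mem_erase.2 ⟨h1, h2⟩, h3⟩))
      · exact .inr (.inr (.inl (Finset.mem_filter.2 ⟨Finset.mem_erase.2 ⟨h1, h2⟩, h3⟩)))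
    by_cases h3 : χ ∈ Y
    · exact .inr (.inr (.inr (.inl h3)))
    · exact .inr (.inr (.inr (.inr (by simp [h2, h3]))))
  · intro χ hχ v hv hv1
    rw [(hXd χ (Finset.mem_of_mem_erase (Finset.mem_filter.1 hχ).1)).2.2 v hv hv1,
      (Finset.mem_filter.1 hχ).2, Int.cast_one]
  · intro χ hχ v hv hv1
    rw [(hXd χ (Finset.mem_of_mem_erase (Finset.mem_filter.1 hχ).1)).2.2 v hv hv1, (hsgnP χ hχ).1]
    simp
  · intro χ hχ v hv hv1
    refine hvanish χ (fun h => ?_) v hv hv1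
    rw [Finset.mem_compl, Finset.mem_union] at hχ
    exact hχ ((hB χ).1 h)

end Cfsg.Agent.SmallGroups.SelfCentPrime
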